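import Cfsg.Agent.Mrg.Omega.OM.Lev.Dich
import Cfsg.Agent.Mrg.Omega.NO3S.Fld.LevRed
import Cfsg.Agent.Mrg.Omega.NO3S.Level.Fam
import Cfsg.Agent.Mrg.Omega.NO3S.OneLine.LevOf
import Cfsg.Agent.Mrg.Omega.OM.BlkGen
import Cfsg.Agent.Mrg.Omega.OM.PB
import Cfsg.Agent.Mrg.Omega.OM.NX
import Cfsg.Agent.Mrg.Omega.NO3S.OneLine.Nat
import Cfsg.Agent.Mrg.Omega.OM.Lev.Nat
import Cfsg.Agent.Mrg.Omega.OM.Lev.Uni
import Cfsg.Agent.Mrg.Omega.OM.UniPlus
import Cfsg.Agent.Mrg.Omega.NO3S.Basic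
import Cfsg.Agent.Mrg.Omega.FrameI
import Cfsg.Agent.ZN.ChoiceBase

section


/-!
# Fixed points do not lift, at every level (helper857 #12910 (c))

`T` a Sylow 2-subgroup of the minimal parabolic `H` over `T`, `[Ω₁(Z(T)), H] = 1`, `lev T n ≰ O₂(H)`. Then `O²(H)`
centralises `Ω₁(Z(O₂(H)))`.

* `fixPt_nxt` : one level `K ≤ O₂(H)`, `nxt T K ≰ O₂(H)`;
* `fixPt_lev` : all levels;
* `fixPt` : `LevD.FixPt (lev S n) T H` for 2-groups `T ≥ lev S n`.
-/

set_option autoImplicit false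

namespace Cfsg.Agent.Omega.OM.LevD

open Subgroup Cfsg Cfsg.Agent.ZN.ChoiceBase Cfsg.Agent.ZN.ChoiceSit
open Cfsg.Agent.ZN (jj zj bau zc zl o2)
open Cfsg.Agent.MinSimple.MinParabolic (IsMinPar)
open Cfsg.Agent.MinSimple.VModule (oddGen mem_oddGen le_normalizer_oddGen oddGen_le oddGen_le_of_sup)
open Cfsg.Agent.Omega.NO3S.Level
open Cfsg.Agent.Omega.NO3S.Fld (ff_lemma_off)
open Cfsg.Agent.Omega.NO3b.K0 (min_or)
open Cfsg.Agent.Omega.NO3S.ThmB (BFam)

universe u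

variable {G : Type u} [Group G] [Finite G] {T H K : Subgroup G}

/-- **Fixed points do not lift**, one level. -/
theorem fixPt_nxt (hT : Syl T H) (hmin : IsMinPar T H) (hL : Lev T K) (hK : K ≤ o2 H) (hn : ¬ nxt T K ≤ o2 H)
    (hz : H ≤ centralizer (zc T : Set G)) : zc (o2 H) ≤ centralizer (oddGen H : Set G) := by
  have hOT : o2 H ≤ T := o2_le_syl hT
  have hU : zc (o2 H) ≤ zc K := hL.zc_o2_le hK hOT
  have hUO : zc (o2 H) ≤ o2 H := zc_le _
  have hsq : ∀ y ∈ zc (o2 H), y ^ 2 = 1 := fun u hu => (mem_zc.1 hu).2.1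
  have hcom : zc (o2 H) ≤ centralizer (zc (o2 H) : Set G) := by
    intro u hu
    rw [mem_centralizer_iff]
    exact fun v hv => (mem_zc.1 hu).2.2 v (mem_zc.1 hv).1
  have hN : H ≤ normalizer (zc (o2 H) : Set G) := (le_normalizer_o2 H).trans (normalizer_le_zc _)
  have hQ : o2 H ≤ centralizer (zc (o2 H) : Set G) := le_centralizer_zc _
  have hCn : H ≤ normalizer ((H ⊓ centralizer (zc (o2 H) : Set G) : Subgroup G) : Set G) :=
    NO3b.K0.norm_inf le_normalizer (hN.trans Dich.norm_cent)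
  rcases min_or hT hmin (K := H ⊓ centralizer (zc (o2 H) : Set G)) inf_le_left hCn with h1 | h1
  · exact le_centralizer_iff.1 (h1.trans inf_le_right)
  have hTC : T ⊓ centralizer (zc K : Set G) ≤ o2 H := by
    refine le_trans ?_ h1
    exact le_inf inf_le_left (le_inf (inf_le_left.trans hT.1) (inf_le_right.trans (centralizer_le hU)))
  obtain ⟨A, hA, hAO⟩ : ∃ A ∈ BO T K, ¬ A ≤ o2 H := by
    by_contra hcon
    push Not at hcon
    exact hn (sup_le hTC (sSup_le hcon))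
  have hF : BFam T (zc (o2 H)) H (BO T K) := bfam_BO hU (hL.le_norm_of_o2 hK hOT)
  refine ff_lemma_off FF.Glob.aStmt hT hmin (hUO.trans (o2_le H)) hsq hcom hN hQ ?_ hA.1 hAO (hF.elem A hA) ?_
  · rintro x ⟨hx, hxT⟩
    have hxz : x ∈ zc T := mem_zc.2 ⟨hOT (hUO hx), hsq x hx, fun t ht => mem_centralizer_iff.1 hxT t ht⟩
    rw [mem_centralizer_iff]
    exact fun e he => (mem_centralizer_iff.1 (hz (oddGen_le H he)) x hxz).symm
  · have h2 := hF.best A hA (A ⊓ centralizer (zc (o2 H) : Set G)) le_rfl inf_le_left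
    have e : zc (o2 H) ⊓ centralizer ((A ⊓ centralizer (zc (o2 H) : Set G) : Subgroup G) : Set G) = zc (o2 H) :=
      inf_eq_left.2 (le_centralizer_iff.1 inf_le_right)
    rw [e, mul_comm] at h2
    exact h2

/-- **Fixed points do not lift**, all levels. -/
theorem fixPt_lev (hT : Syl T H) (hmin : IsMinPar T H) (hz : H ≤ centralizer (zc T : Set G)) :
    ∀ n, ¬ lev T n ≤ o2 H → zc (o2 H) ≤ centralizer (oddGen H : Set G) := by
  intro n
  induction n with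
  | zero => exact fun h => FixPt.fixPt FF.Glob.aStmt hT hmin h hz
  | succ n ih =>
    intro h
    by_cases h1 : lev T n ≤ o2 H
    · exact fixPt_nxt hT hmin (lev_isLev T n) h1 h hz
    · exact ih h1

/-- The hypothesis `hfix` of `LevD.gen` at stage `n`. -/
theorem fixPt (S : Sylow 2 G) {n : ℕ} (hT : Syl T H) (hle : lev (S : Subgroup G) n ≤ T) (hmin : IsMinPar T H) :
    FixPt (lev (S : Subgroup G) n) T H := fun h hz =>
  fixPt_lev hT hmin hz n (by rwa [lev_eq S hT.2.1 hle n le_rfl])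

/-- The hypothesis `hfix` of `LevD.gen` at stage `-1`. -/
theorem fixPt_neg (S : Sylow 2 G) (hT : Syl T H) (hle : jj (S : Subgroup G) ≤ T) (hmin : IsMinPar T H) :
    FixPt (jj (S : Subgroup G)) T H := fun h hz =>
  FixPt.fixPt FF.Glob.aStmt hT hmin (by rwa [MinSimple.EmptyTI.jj_eq S hT.2.1 hle]) hz

end Cfsg.Agent.Omega.OM.LevD

end

section


/-!
# Best offenders of `T` on `X` in a minimal parabolic `H` over `T` (general pair `(T, H)`)

`GE T H X AA` : `T` a Sylow 2-subgroup of the minimal parabolic `H`, `C_T(V) ≤ O₂(H)` for `V = ⟨Ω₁Z(T)^H⟩ ≤ X`, `X` an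
elementary abelian normal subgroup of `H`, no over-offender on `V`, `AA` a family of best offenders of `T` on `X`.

* `GE.exact`, `GE.cut` : `C_X(A ∩ Q) = V C_X(A)`;
* `Y0 H X AA = C_X(⟨A ∈ AA | A ≤ Q⟩)` : `GE.norm_Y0` : normal in `H`; `GE.Y0_le` : `Y0 ≤ V C_X(A)`, `A ∈ AA`;
  `GE.Y0_comm` : `[y, a] = [v, a]`, `v ∈ V`;
* `GE.of_lev` : the instance at a level `K ≤ O₂(H)` of `T`;
* `zc_nxt` : `Ω₁Z(nxt T K) = C_{Ω₁Z(K)}(BO T K)`.
-/

set_option autoImplicit false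
set_option linter.unusedSectionVars false

namespace Cfsg.Agent.Omega.OM.GLev

open Subgroup Cfsg Cfsg.Agent.PLocal.ThompsonJ Cfsg.Agent.ZN Cfsg.Agent.ZN.ChoiceBase Cfsg.Agent.ZN.ChoiceSit
open Cfsg.Agent.PLocal.ElemAbSup
open Cfsg.Agent.Omega.SQ1.Bau (mem_sup_comm card_sup_comm elem_comm elem_sq)
open Cfsg.Agent.Omega.SQ1.FFOne (MinH)
open Cfsg.Agent.MinSimple.MinParabolic (IsMinPar)
open Cfsg.Agent.Omega.NO3S.OneLine (BFam elemM_mono bo bo_fam bo_eq zc_elem)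
open Cfsg.Agent.Omega.NO3S.Level (Lev nxt BO)
open Cfsg.Agent.Omega.FFThm (ElemM OffM NoOverM)

universe u

variable {G : Type u} [Group G] [Finite G] {T H X : Subgroup G} {AA : Set (Subgroup G)}

/-- `T` Sylow in the minimal parabolic `H`, a family of best offenders of `T` on the normal subgroup `X` of `H`. -/
structure GE (T H X : Subgroup G) (AA : Set (Subgroup G)) : Prop where
  hm : MinH H T
  fam : BFam T X (normalizer (X : Set G)) AA
  elem : IsElementaryAbelian 2 X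
  norm : H ≤ normalizer (X : Set G)
  VX : zl T H ≤ X
  QC : T ⊓ centralizer (zl T H : Set G) ≤ o2 H
  noOver : NoOverM (zl T H) H

/-- `C_X(⟨A ∈ AA | A ≤ O₂(H)⟩)` -/
def Y0 (H X : Subgroup G) (AA : Set (Subgroup G)) : Subgroup G :=
  X ⊓ centralizer ((sSup {A | A ∈ AA ∧ A ≤ o2 H} : Subgroup G) : Set G)

theorem mem_Y0 {y : G} : y ∈ Y0 H X AA ↔ y ∈ X ∧ ∀ A ∈ AA, A ≤ o2 H → ∀ a ∈ A, a * y = y * a := by
  rw [Y0, mem_inf, NO3S.OneLine.mem_cent_sSup]
  exact ⟨fun h => ⟨h.1, fun A hA hAQ a ha => h.2 A ⟨hA, hAQ⟩ a ha⟩, fun h => ⟨h.1, fun A hA a ha => h.2 A hA.1 hA.2 a ha⟩⟩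

namespace GE

variable (h : GE T H X AA)
include h

theorem Xc : ∀ x ∈ X, ∀ y ∈ X, x * y = y * x := elem_comm h.elem

theorem TH : T ≤ H := h.hm.syl.1

theorem QT : o2 H ≤ T := o2_le_syl h.hm.syl

theorem comm_Q : ∀ a ∈ o2 H, ∀ v ∈ zl T H, a * v = v * a := SQ1.VOf.MinH.o2_cent h.hm

theorem inf_cent {A : Subgroup G} (hA : A ≤ T) : A ⊓ centralizer (zl T H : Set G) = A ⊓ o2 H := by
  apply le_antisymm
  · exact le_inf inf_le_left (le_trans (inf_le_inf_right _ hA) h.QC)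
  · exact inf_le_inf_left _ fun x hx => mem_centralizer_iff.2 fun v hv => (h.comm_Q x hx v hv).symm

/-- exactness -/
theorem exact {A : Subgroup G} (hA : A ∈ AA) :
    Nat.card A * Nat.card ↥(zl T H ⊓ centralizer (A : Set G)) =
      Nat.card (zl T H) * Nat.card ↥(A ⊓ o2 H) := by
  have hAS := h.fam.le A hA
  have h1 := h.fam.off h.Xc h.VX hA
  have h2 := h.noOver A (hAS.trans h.TH) (elemM_mono (h.fam.elem A hA) h.VX le_rfl)
  rw [h.inf_cent hAS] at h1 h2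
  exact le_antisymm h2 h1

/-- `|A ∩ Q| |C_X(A ∩ Q)| = |A| |C_X(A)|` and `C_X(A ∩ Q) = V C_X(A)`. -/
theorem cut {A : Subgroup G} (hA : A ∈ AA) :
    Nat.card ↥(A ⊓ o2 H) * Nat.card ↥(X ⊓ centralizer ((A ⊓ o2 H : Subgroup G) : Set G)) =
        Nat.card A * Nat.card ↥(X ⊓ centralizer (A : Set G)) ∧
      zl T H ⊔ (X ⊓ centralizer (A : Set G)) =
        X ⊓ centralizer ((A ⊓ o2 H : Subgroup G) : Set G) := by
  have hAS := h.fam.le A hA
  have hc := h.exact hA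
  have hle : zl T H ⊔ (X ⊓ centralizer (A : Set G)) ≤
      X ⊓ centralizer ((A ⊓ o2 H : Subgroup G) : Set G) := by
    refine sup_le (le_inf h.VX fun v hv => mem_centralizer_iff.2 fun a ha => h.comm_Q a ha.2 v hv) ?_
    exact inf_le_inf_left _ (centralizer_le inf_le_left)
  have h1 := card_sup_comm (A := zl T H) (B := X ⊓ centralizer (A : Set G))
    fun v hv x hx => h.Xc v (h.VX hv) x hx.1
  have h2 : zl T H ⊓ (X ⊓ centralizer (A : Set G)) =
      zl T H ⊓ centralizer (A : Set G) := by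
    rw [← inf_assoc, inf_eq_left.2 h.VX]
  rw [h2] at h1
  have hp : 0 < Nat.card ↥(zl T H ⊓ centralizer (A : Set G)) := Nat.card_pos
  have h4 : Nat.card ↥(A ⊓ o2 H) * Nat.card ↥(X ⊓ centralizer ((A ⊓ o2 H : Subgroup G) : Set G)) ≤
      Nat.card A * Nat.card ↥(X ⊓ centralizer (A : Set G)) := by
    refine h.fam.best A hA _ ?_ inf_le_left
    rw [← h.inf_cent hAS]
    exact inf_le_inf_left _ (centralizer_le h.VX)
  have h5 := Nat.mul_le_mul_left (Nat.card ↥(A ⊓ o2 H)) (Subgroup.card_le_of_le hle)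
  have h6 : Nat.card ↥(A ⊓ o2 H) * Nat.card ↥(zl T H ⊔ (X ⊓ centralizer (A : Set G))) =
      Nat.card A * Nat.card ↥(X ⊓ centralizer (A : Set G)) := by
    refine Nat.eq_of_mul_eq_mul_right hp ?_
    calc _ = Nat.card ↥(A ⊓ o2 H) * (Nat.card ↥(zl T H ⊔ (X ⊓ centralizer (A : Set G))) *
          Nat.card ↥(zl T H ⊓ centralizer (A : Set G))) := by ring
      _ = (Nat.card (zl T H) * Nat.card ↥(A ⊓ o2 H)) *
          Nat.card ↥(X ⊓ centralizer (A : Set G)) := by rw [h1]; ring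
      _ = _ := by rw [← hc]; ring
  have h7 := le_antisymm h4 (h6 ▸ h5)
  refine ⟨h7, Subgroup.eq_of_le_of_card_ge hle ?_⟩
  have hp' : 0 < Nat.card ↥(A ⊓ o2 H) := Nat.card_pos
  exact Nat.le_of_mul_le_mul_left (h7.trans h6.symm).le hp'

/-- `Y0` is normal in `H`. -/
theorem norm_Y0 : H ≤ normalizer (Y0 H X AA : Set G) := by
  intro g hg
  refine mem_normalizer_of_cj_le ?_
  rintro _ ⟨y, hy, rfl⟩
  obtain ⟨hyX, hyc⟩ := mem_Y0.1 hy
  refine mem_Y0.2 ⟨(mem_normalizer_iff.1 (h.norm hg) y).1 hyX, fun A hA hAQ a ha => ?_⟩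
  have hQ : cj g⁻¹ A ≤ o2 H := by
    have h1 := cj_mono g⁻¹ hAQ
    rwa [cj_eq_of_mem_normalizer (ChoiceSit.le_normalizer_o2 H (inv_mem hg))] at h1
  have hA' := h.fam.conj A hA g⁻¹ (h.norm (inv_mem hg)) (hQ.trans h.QT)
  have h2 := hyc _ hA' hQ (g⁻¹ * a * g) ⟨a, ha, by simp⟩
  have h3 := congrArg (fun t => g * t * g⁻¹) h2
  simpa [mul_assoc] using h3

/-- `Y0 ≤ V C_X(A)`. -/
theorem Y0_le {A : Subgroup G} (hA : A ∈ AA) : Y0 H X AA ≤ zl T H ⊔ (X ⊓ centralizer (A : Set G)) := by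
  have hAS := h.fam.le A hA
  have hc := h.cut hA
  obtain ⟨B', hB', e⟩ := h.fam.cut A hA (A ⊓ o2 H) (by
    rw [← h.inf_cent hAS]
    exact inf_le_inf_left _ (centralizer_le h.VX)) inf_le_left hc.1
  have hB'V : B' ≤ centralizer (zl T H : Set G) := by
    have h1 : B' ≤ (A ⊓ o2 H) ⊔ centralizer (X : Set G) := by rw [← e]; exact le_sup_left
    refine h1.trans (sup_le ?_ (centralizer_le h.VX))
    exact fun x hx => mem_centralizer_iff.2 fun v hv => (h.comm_Q x hx.2 v hv).symm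
  have hB'Q : B' ≤ o2 H := (le_inf (h.fam.le B' hB') hB'V).trans h.QC
  rw [hc.2]
  intro y hy
  obtain ⟨hyX, hyc⟩ := mem_Y0.1 hy
  refine ⟨hyX, mem_centralizer_iff.2 fun a ha => ?_⟩
  have h1 : B' ⊔ centralizer (X : Set G) ≤ centralizer {y} := by
    refine sup_le (fun b hb => ?_) (fun c hc => ?_)
    · rw [mem_centralizer_singleton_iff]
      exact hyc B' hB' hB'Q b hb
    · rw [mem_centralizer_singleton_iff]
      exact (mem_centralizer_iff.1 hc y hyX).symm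
  rw [e] at h1
  exact mem_centralizer_singleton_iff.1 (h1 (mem_sup_left ha))

/-- `[a, y] = [a, v]`, `v ∈ V`. -/
theorem Y0_comm {A : Subgroup G} (hA : A ∈ AA) {y : G} (hy : y ∈ Y0 H X AA) :
    ∃ v ∈ zl T H, ∀ a ∈ A, a * y * a⁻¹ * y⁻¹ = a * v * a⁻¹ * v⁻¹ := by
  obtain ⟨v, hv, x, hx, rfl⟩ := mem_sup_comm (A := zl T H) (B := X ⊓ centralizer (A : Set G))
    (fun v hv x hx => h.Xc v (h.VX hv) x hx.1) (h.Y0_le hA hy)
  refine ⟨v, hv, fun a ha => ?_⟩
  have h1 : a * x = x * a := mem_centralizer_iff.1 hx.2 a ha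
  calc a * (v * x) * a⁻¹ * (v * x)⁻¹ = a * v * (x * a⁻¹) * x⁻¹ * v⁻¹ := by group
    _ = a * v * (a⁻¹ * (a * x) * a⁻¹) * x⁻¹ * v⁻¹ := by group
    _ = a * v * (a⁻¹ * (x * a) * a⁻¹) * x⁻¹ * v⁻¹ := by rw [h1]
    _ = _ := by group

/-- the centraliser of the family is in `Y0` -/
theorem mem_Y0_of {y : G} (hy : y ∈ X) (hc : ∀ A ∈ AA, ∀ a ∈ A, a * y = y * a) : y ∈ Y0 H X AA :=
  mem_Y0.2 ⟨hy, fun A hA _ a ha => hc A hA a ha⟩

/-- members of the family outside `O₂(H)` are offenders -/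
theorem offM {A : Subgroup G} (hA : A ∈ AA) (hAQ : ¬ A ≤ o2 H) : OffM (zl T H) A :=
  { toElemM := elemM_mono (h.fam.elem A hA) h.VX le_rfl
    ne := fun h1 => hAQ ((le_inf (h.fam.le A hA) h1).trans h.QC)
    le := h.fam.off h.Xc h.VX hA }

end GE

/-- **The instance at a level.** -/
theorem GE.of_lev {K : Subgroup G} (hT : Syl T H) (hP : IsMinPar T H)
    (hc : H ⊓ centralizer (o2 H : Set G) ≤ o2 H) (hZ : ¬ H ≤ centralizer (zc T : Set G)) (hL : Lev T K)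
    (hK : K ≤ o2 H) (hno : NoOverM (zl T H) H) : GE T H (zc K) (BO T K) where
  hm := SQ1.FFOne.minH_of hT hP hc
  fam := by
    rw [bo_eq]
    exact bo_fam T (zc K)
  elem := zc_elem K
  norm := (hL.le_norm_of_o2 hK (o2_le_syl hT)).trans (NO3S.Level.normalizer_le_zc K)
  VX := (MinSimple.VModule.zl_le_zc hT.1 hT.2.1 (syl_not_dvd hT) hc).trans (hL.zc_o2_le hK (o2_le_syl hT))
  QC := BlkGen.inf_cent hT hP hZ
  noOver := hno

/-- `Ω₁Z(nxt T K) = C_{Ω₁Z(K)}(BO T K)` -/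
theorem zc_nxt {K : Subgroup G} (hL : Lev T K) {x : G} : x ∈ zc (nxt T K) ↔ x ∈ zc K ∧ ∀ A ∈ BO T K, ∀ a ∈ A,
    a * x = x * a := by
  have hKn : K ≤ nxt T K := NO3S.Level.le_nxt hL.le
  constructor
  · intro hx
    exact ⟨hL.zc_le_zc hKn (NO3S.Level.nxt_le _ _) hx, fun A hA a ha =>
      (ChoiceBase.mem_zc.1 hx).2.2 a (NO3S.Level.BO.le_nxt hA ha)⟩
  · rintro ⟨hx, hxA⟩
    refine ChoiceBase.mem_zc.2 ⟨hKn (ChoiceBase.mem_zc.1 hx).1, (ChoiceBase.mem_zc.1 hx).2.1, ?_⟩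
    have h1 : nxt T K ≤ centralizer {x} := by
      refine sup_le (fun c hc => ?_) (sSup_le fun A hA c hc => ?_)
      · rw [mem_centralizer_singleton_iff]
        exact (mem_centralizer_iff.1 hc.2 x hx).symm
      · rw [mem_centralizer_singleton_iff]
        exact hxA A hA c hc
    exact fun y hy => mem_centralizer_singleton_iff.1 (h1 hy)

/-- a best offender of `T` on `Ω₁Z(K)` outside `O₂(H)`, if `nxt T K ≰ O₂(H)` -/
theorem GE.exists_BO {K : Subgroup G} (h : GE T H (zc K) (BO T K)) (hn : ¬ nxt T K ≤ o2 H) :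
    ∃ A ∈ BO T K, ¬ A ≤ o2 H := by
  by_contra hcon
  push Not at hcon
  refine hn (sup_le ?_ (sSup_le hcon))
  exact le_trans (inf_le_inf_left _ (centralizer_le h.VX)) h.QC

/-- The hypotheses on the pair `(B, ZJ)` for a family `AA` of `T` on `X`. -/
structure BZ (T X : Subgroup G) (AA : Set (Subgroup G)) (B ZJ : Subgroup G) : Prop where
  mem_ZJ : ∀ z, z ∈ ZJ ↔ z ∈ X ∧ ∀ A ∈ AA, ∀ a ∈ A, a * z = z * a
  eqB : B = T ⊓ centralizer (ZJ : Set G)
  zcB : zc B = ZJ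
  wn : ∀ R : Subgroup G, IsPGroup 2 R → B ≤ R → R ≤ normalizer (B : Set G)
  sylB : ∀ R : Subgroup G, IsPGroup 2 R → B ≤ R → R ≤ centralizer (ZJ : Set G) → R = B

namespace BZ

omit [Finite G] in
theorem BT {B ZJ : Subgroup G} (b : BZ T X AA B ZJ) : B ≤ T := b.eqB.le.trans inf_le_left

omit [Finite G] in
theorem cB {B ZJ : Subgroup G} (b : BZ T X AA B ZJ) {x z : G} (hx : x ∈ B) (hz : z ∈ ZJ) : x * z = z * x :=
  (mem_centralizer_iff.1 (b.eqB.le hx).2 z hz).symm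

omit [Finite G] in
theorem mem_B {B ZJ : Subgroup G} (b : BZ T X AA B ZJ) {x : G} (hx : x ∈ T) (hc : ∀ z ∈ ZJ, x * z = z * x) :
    x ∈ B := by
  rw [b.eqB]
  exact ⟨hx, mem_centralizer_iff.2 fun z hz => (hc z hz).symm⟩

omit [Finite G] in
theorem A_le {B ZJ : Subgroup G} (b : BZ T X AA B ZJ) {A : Subgroup G} (hA : A ∈ AA) (hAT : A ≤ T) : A ≤ B :=
  fun a ha => b.mem_B (hAT ha) fun z hz => ((b.mem_ZJ z).1 hz).2 A hA a ha

end BZ

end Cfsg.Agent.Omega.OM.GLev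

end

section


/-!
# Blocks over `B` from coordinates, the module an extension of a trivial by a natural module

* `NXD F B X N D` : the group `X ≥ B` acts on `N ≤ B`, trivially on `D ≤ N`, on `N / D` as a subgroup of `SL₂(F)`; `B` is a
  Sylow 2-subgroup of `X` and induces the group of upper unitriangular matrices, `[Ω₁Z(B), X] ≤ N`;
* `NXD.exists_pb` : a minimal `L`, `B ≤ L ≤ X`, moving the line gives `PB B L N N₁ D |F|`;
* `NXI F B ZJ Y N D g` : the same input over the pair `(B, ZJ)`, with one element `g` such that `[ZJ, g] ≤ N`;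
  `NXI.nxd` : then `X = ⟨B, B^g⟩` is as above; `NXI.exists_pb`.
-/

set_option autoImplicit false

namespace Cfsg.Agent.Omega.OM.BIn

open Subgroup Cfsg Cfsg.Agent.PLocal.ThompsonJ Cfsg.Agent.ZN Cfsg.Agent.ZN.ChoiceBase
open Cfsg.Agent.ZN.ChoiceSit
open Cfsg.Agent.PLocal.ElemAbSup
open Cfsg.Agent.Omega.SQ1.Bau (mem_sup_comm card_sup_comm elem_comm elem_sq Mv)
open Cfsg.Agent.Omega.NatPair (ap ap_zero' ap_one' ap_one ap_mul ext2 ap_inv_ap)
open Cfsg.Agent.Lib.SL2Mat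
open Cfsg.Agent.Omega.SQ1.FFOne (syl_inf mem_norm_of)
open Cfsg.Agent.Omega.NO3S.OneLine (card_of_hom)
open scoped Pointwise commutatorElement

universe u

variable {G : Type u} [Group G]

/-- `X ≥ B` acts on `N / D` as a subgroup of `SL₂(F)`, `B` as the group of upper unitriangular matrices. -/
structure NXD (F : Type*) [Field F] (B X N D : Subgroup G) where
  π : G → Fin 2 → F
  mul : ∀ v ∈ N, ∀ w ∈ N, π (v * w) = π v + π w
  ker : ∀ v ∈ N, π v = 0 ↔ v ∈ D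
  DN : D ≤ N
  surj : ∀ x, ∃ v ∈ N, π v = x
  el : IsElementaryAbelian 2 N
  NB : N ≤ B
  B2 : IsPGroup 2 B
  BX : B ≤ X
  nN : ∀ l ∈ X, ∀ v ∈ N, l * v * l⁻¹ ∈ N
  cD : ∀ l ∈ X, ∀ d ∈ D, l * d = d * l
  acts : ∀ l ∈ X, ∃ A : Matrix.SpecialLinearGroup (Fin 2) F, ∀ v ∈ N, π (l * v * l⁻¹) = ap A (π v)
  triv : ∀ l ∈ X, (∀ v ∈ N, π (l * v * l⁻¹) = π v) → ∀ v ∈ N, l * v = v * l
  up : ∀ b ∈ B, ∃ c : F, ∀ v ∈ N, π (b * v * b⁻¹) = ap (up c) (π v)
  upc : ∀ c : F, ∃ b ∈ B, ∀ v ∈ N, π (b * v * b⁻¹) = ap (Lib.SL2Mat.up c) (π v)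
  N1c : ∀ b ∈ B, ∀ v ∈ N, π v 1 = 0 → b * v = v * b
  mv : ∃ l ∈ X, ∃ v ∈ N, π v 1 = 0 ∧ π (l * v * l⁻¹) 1 ≠ 0
  syl : ∀ T : Subgroup G, B ≤ T → T ≤ X → IsPGroup 2 T → T = B
  act : ∀ l ∈ X, ∀ z ∈ zc B, l * z * l⁻¹ * z⁻¹ ∈ N

namespace NXD

variable {F : Type*} [Field F] {B X N D : Subgroup G} (M : NXD F B X N D)

/-- `g` acts as `A`. -/
def Acts (g : G) (A : Matrix.SpecialLinearGroup (Fin 2) F) : Prop := ∀ v ∈ N, M.π (g * v * g⁻¹) = ap A (M.π v)

theorem map_one : M.π 1 = 0 := by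
  have := M.mul 1 (one_mem N) 1 (one_mem N)
  rw [one_mul] at this
  exact left_eq_add.1 this

theorem map_inv {v : G} (hv : v ∈ N) : M.π v⁻¹ = - M.π v := by
  have := M.mul v hv v⁻¹ (inv_mem hv)
  rw [mul_inv_cancel, M.map_one] at this
  exact (neg_eq_of_add_eq_zero_right this.symm).symm

theorem map_div {v w : G} (hv : v ∈ N) (hw : w ∈ N) : M.π (v * w⁻¹) = M.π v - M.π w := by
  rw [M.mul v hv _ (inv_mem hw), M.map_inv hw, sub_eq_add_neg]

variable {M}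

theorem Acts.mul {g h : G} (hh : h ∈ X) {A A' : Matrix.SpecialLinearGroup (Fin 2) F} (hA : M.Acts g A)
    (hB : M.Acts h A') : M.Acts (g * h) (A * A') := by
  intro v hv
  have e : g * h * v * (g * h)⁻¹ = g * (h * v * h⁻¹) * g⁻¹ := by group
  rw [e, hA _ (M.nN h hh v hv), hB v hv, ap_mul]

theorem Acts.inv {g : G} (hg : g ∈ X) {A : Matrix.SpecialLinearGroup (Fin 2) F} (hA : M.Acts g A) :
    M.Acts g⁻¹ A⁻¹ := by
  intro v hv
  have h1 := hA _ (M.nN g⁻¹ (inv_mem hg) v hv)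
  have e : g * (g⁻¹ * v * g⁻¹⁻¹) * g⁻¹ = v := by group
  rw [e] at h1
  rw [h1, ap_inv_ap]

theorem Acts.cent {g : G} (hg : g ∈ X) (hA : M.Acts g 1) {v : G} (hv : v ∈ N) : g * v = v * g :=
  M.triv g hg (fun w hw => by rw [hA w hw, ap_one]) v hv

theorem acts_of_cent {g : G} (h : ∀ v ∈ N, g * v = v * g) : M.Acts g 1 := by
  intro v hv
  rw [h v hv, mul_inv_cancel_right, ap_one]

variable (M)

/-- the line `N₁ = {v ∈ N | π v 1 = 0}`. -/
def Zs : Subgroup G where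
  carrier := {v | v ∈ N ∧ M.π v 1 = 0}
  mul_mem' := by
    rintro a b ⟨ha, ha'⟩ ⟨hb, hb'⟩
    exact ⟨mul_mem ha hb, by rw [M.mul a ha b hb, Pi.add_apply, ha', hb', add_zero]⟩
  one_mem' := ⟨one_mem _, by rw [M.map_one]; rfl⟩
  inv_mem' := by
    rintro a ⟨ha, ha'⟩
    exact ⟨inv_mem ha, by rw [M.map_inv ha, Pi.neg_apply, ha', neg_zero]⟩

theorem mem_Zs {v : G} : v ∈ M.Zs ↔ v ∈ N ∧ M.π v 1 = 0 := Iff.rfl

theorem D_le_Zs : D ≤ M.Zs := fun d hd => ⟨M.DN hd, by rw [(M.ker d (M.DN hd)).2 hd]; rfl⟩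

theorem card_N : Nat.card N = Nat.card M.Zs * Nat.card F :=
  card_of_hom (fun _ hv => hv.1) (fun v => M.π v 1) (fun v hv w hw => by rw [M.mul v hv w hw]; rfl)
    (fun c => by
      obtain ⟨v, hv, e⟩ := M.surj ![0, c]
      exact ⟨v, hv, by rw [e]; rfl⟩)
    fun v hv => ⟨fun h => ⟨hv, h⟩, fun h => h.2⟩

theorem card_Zs : Nat.card M.Zs = Nat.card D * Nat.card F :=
  card_of_hom M.D_le_Zs (fun v => M.π v 0) (fun v hv w hw => by rw [M.mul v hv.1 w hw.1]; rfl)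
    (fun c => by
      obtain ⟨v, hv, e⟩ := M.surj ![c, 0]
      exact ⟨v, ⟨hv, by rw [e]; rfl⟩, by rw [e]; rfl⟩)
    fun v hv => ⟨fun h => (M.ker v hv.1).1 (ext2 h hv.2), fun h => by rw [(M.ker v hv.1).2 h]; rfl⟩

theorem mv_iff {l : G} (hl : l ∈ X) {A : Matrix.SpecialLinearGroup (Fin 2) F} (hA : M.Acts l A) :
    Mv M.Zs l ↔ ent A 1 0 ≠ 0 := by
  constructor
  · rintro ⟨v, hv, h⟩ h0
    refine h ⟨M.nN l hl v hv.1, ?_⟩
    rw [hA v hv.1, ap_one', h0, hv.2]; simp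
  · intro h0
    obtain ⟨v, hv, e⟩ := M.surj ![1, 0]
    refine ⟨v, ⟨hv, by rw [e]; rfl⟩, fun h => h0 ?_⟩
    have h1 := h.2
    rw [hA v hv, ap_one', e] at h1
    simpa using h1

/-- **Minimal blocks.** -/
theorem exists_pb [Finite G] [Finite F] [CharP F 2] :
    ∃ L, B ≤ L ∧ L ≤ X ∧ PB B L N M.Zs D (Nat.card F) ∧ (∀ A, ∃ l ∈ L, M.Acts l A) := by
  classical
  set S : Set (Subgroup G) := {Y | B ≤ Y ∧ Y ≤ X ∧ ∃ l ∈ Y, Mv M.Zs l} with hS
  have hXS : X ∈ S := by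
    obtain ⟨l, hl, v, hv, h1, h2⟩ := M.mv
    exact ⟨M.BX, le_rfl, l, hl, v, ⟨hv, h1⟩, fun h => h2 h.2⟩
  obtain ⟨L, hL⟩ : ∃ L, Minimal (· ∈ S) L := by
    obtain ⟨L, -, h⟩ := (Set.toFinite S).exists_le_minimal hXS
    exact ⟨L, h⟩
  obtain ⟨hBL, hLX, hmvL⟩ := hL.prop
  have hmin : ∀ Y : Subgroup G, B ≤ Y → Y ≤ L → (∃ l ∈ Y, Mv M.Zs l) → Y = L := fun Y h1 h2 h3 =>
    le_antisymm h2 (hL.le_of_le ⟨h1, h2.trans hLX, h3⟩ h2)
  have hsylL : Syl B L := ⟨hBL, M.B2, fun T hT h2 hBT => M.syl T hBT (hT.trans hLX) h2⟩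
  -- the matrices
  have hcov : ∀ A, ∃ l ∈ L, M.Acts l A := by
    obtain ⟨x, hx, hxm⟩ := hmvL
    obtain ⟨A₀, hA₀⟩ := M.acts x (hLX hx)
    have hc := (M.mv_iff (hLX hx) hA₀).1 hxm
    have hup : ∀ c : F, ∃ y ∈ L, M.Acts y (Lib.SL2Mat.up c) := by
      intro c
      obtain ⟨b, hb, hbc⟩ := M.upc c
      exact ⟨b, hBL hb, hbc⟩
    have hmul : ∀ A A', (∃ y ∈ L, M.Acts y A) → (∃ y ∈ L, M.Acts y A') → ∃ y ∈ L, M.Acts y (A * A') := by
      rintro A A' ⟨y, hy, hyA⟩ ⟨y', hy', hyA'⟩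
      exact ⟨y * y', mul_mem hy hy', Acts.mul (M := M) (hLX hy') hyA hyA'⟩
    have hinv : ∀ A, (∃ y ∈ L, M.Acts y A) → ∃ y ∈ L, M.Acts y A⁻¹ := by
      rintro A ⟨y, hy, hyA⟩
      exact ⟨y⁻¹, inv_mem hy, Acts.inv (M := M) (hLX hy) hyA⟩
    have hx1 : ∃ y ∈ L, M.Acts y A₀ := ⟨x, hx, hA₀⟩
    have hlo0 : ∃ y ∈ L, M.Acts y (lo (ent A₀ 1 0)) := by
      obtain ⟨a, d, h1⟩ : ∃ a d : F, A₀ = Lib.SL2Mat.up a * lo (ent A₀ 1 0) * Lib.SL2Mat.up d :=
        ⟨_, _, eq_up_lo_up A₀ hc⟩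
      have h2 : (Lib.SL2Mat.up a)⁻¹ * A₀ * (Lib.SL2Mat.up d)⁻¹ = lo (ent A₀ 1 0) := by
        rw [mul_inv_eq_iff_eq_mul, inv_mul_eq_iff_eq_mul, ← mul_assoc]
        exact h1
      rw [← h2]
      exact hmul _ _ (hmul _ _ (hinv _ (hup _)) hx1) (hinv _ (hup _))
    have hc' : -(ent A₀ 1 0)⁻¹ ≠ 0 := neg_ne_zero.2 (inv_ne_zero hc)
    have hwm : ∃ y ∈ L, M.Acts y (wm (-(ent A₀ 1 0)⁻¹) hc') := by
      rw [wm_eq]
      have e : -(-(ent A₀ 1 0)⁻¹)⁻¹ = ent A₀ 1 0 := by rw [inv_neg, neg_neg, inv_inv]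
      rw [e]
      exact hmul _ _ (hmul _ _ hlo0 (hup _)) hlo0
    have hlo : ∀ c : F, ∃ y ∈ L, M.Acts y (lo c) := by
      intro c
      have h1 := wm_up (-(ent A₀ 1 0)⁻¹) (-(c * (-(ent A₀ 1 0)⁻¹) ^ 2)) hc'
      have e : -(-(c * (-(ent A₀ 1 0)⁻¹) ^ 2) / (-(ent A₀ 1 0)⁻¹) ^ 2) = c := by
        field_simp
      rw [e] at h1
      have h2 : lo c = wm (-(ent A₀ 1 0)⁻¹) hc' * Lib.SL2Mat.up (-(c * (-(ent A₀ 1 0)⁻¹) ^ 2)) *
          (wm (-(ent A₀ 1 0)⁻¹) hc')⁻¹ := by rw [h1, mul_inv_cancel_right]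
      rw [h2]
      exact hmul _ _ (hmul _ _ hwm (hup _)) (hinv _ hwm)
    intro A
    obtain ⟨a, b, c, d, rfl⟩ := exists_up_lo A
    exact hmul _ _ (hmul _ _ (hmul _ _ (hup a) (hlo b)) (hup c)) (hlo d)
  -- the kernel
  set K : Subgroup G := L ⊓ centralizer (N : Set G) with hK
  have hKn : ∀ l ∈ L, ∀ n ∈ K, l * n * l⁻¹ ∈ K := by
    intro l hl n hn
    obtain ⟨hn1, hn2⟩ := mem_inf.1 hn
    refine mem_inf.2 ⟨mul_mem (mul_mem hl hn1) (inv_mem hl), mem_centralizer_iff.2 fun v hv => ?_⟩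
    have hv' : l⁻¹ * v * l ∈ N := by
      have := M.nN l⁻¹ (inv_mem (hLX hl)) v hv
      rwa [inv_inv] at this
    have h1 := mem_centralizer_iff.1 hn2 _ hv'
    have h2 := congrArg (fun t => l * t * l⁻¹) h1
    simpa [mul_assoc] using h2
  have hKact : ∀ k ∈ K, M.Acts k 1 := fun k hk => acts_of_cent fun v hv =>
    (mem_centralizer_iff.1 (mem_inf.1 hk).2 v hv).symm
  have hKmv : ∀ k ∈ K, ∀ l ∈ L, Mv M.Zs l → Mv M.Zs (k * l) := by
    intro k hk l hl hm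
    obtain ⟨A, hA⟩ := M.acts l (hLX hl)
    have h3 := Acts.mul (M := M) (hLX hl) (hKact k hk) hA
    rw [one_mul] at h3
    exact (M.mv_iff (hLX (mul_mem (mem_inf.1 hk).1 hl)) h3).2 ((M.mv_iff (hLX hl) hA).1 hm)
  -- `cor`
  have hcor : ∀ l ∈ L, ∀ x ∈ B, (∀ v ∈ N, x * v = v * x) → l * x * l⁻¹ ∈ B := by
    have hD := syl_inf hsylL (inf_le_left : K ≤ L) hKn
    have h1 : L ⊓ normalizer ((B ⊓ K : Subgroup G) : Set G) = L := by
      refine hmin _ (le_inf hBL fun b hb => ?_) inf_le_left ?_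
      · refine mem_norm_of fun k hk => ?_
        obtain ⟨hk1, hk2⟩ := mem_inf.1 hk
        exact mem_inf.2 ⟨mul_mem (mul_mem hb hk1) (inv_mem hb), hKn b (hBL hb) k hk2⟩
      · obtain ⟨l, hl, hlm⟩ := hmvL
        have h2 : Syl (cj l (B ⊓ K)) K := by
          refine ⟨?_, isPGroup_cj l hD.2.1, fun R hR h2 hle => ?_⟩
          · rintro _ ⟨x, hx, rfl⟩
            exact hKn l hl x (mem_inf.1 hx).2
          · have h3 : cj l⁻¹ R ≤ K := by
              rintro _ ⟨r, hr, rfl⟩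
              exact hKn l⁻¹ (inv_mem hl) r (hR hr)
            have h4 := hD.2.2 _ h3 (isPGroup_cj _ h2) (cj_le_iff.1 hle)
            rw [← h4, cj_cj_inv]
        obtain ⟨k, hk, e⟩ := syl_conj h2 hD
        rw [cj_cj] at e
        exact ⟨k * l, mem_inf.2 ⟨mul_mem (mem_inf.1 hk).1 hl, mem_normalizer_iff_cj.2 e⟩, hKmv k hk l hl hlm⟩
    intro l hl x hx hxc
    have h2 : l ∈ L ⊓ normalizer ((B ⊓ K : Subgroup G) : Set G) := by rw [h1]; exact hl
    have h3 : x ∈ B ⊓ K := mem_inf.2 ⟨hx, mem_inf.2 ⟨hBL hx, mem_centralizer_iff.2 fun v hv => (hxc v hv).symm⟩⟩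
    exact (mem_inf.1 ((mem_normalizer_iff.1 (mem_inf.1 h2).2 x).1 h3)).1
  refine ⟨L, hBL, hLX, ?_, hcov⟩
  have hq : 1 < Nat.card F := Finite.one_lt_card
  exact
    { Bp := M.B2
      BL := hBL
      el := M.el
      NB := M.NB
      Nn := fun l hl v hv => M.nN l (hLX hl) v hv
      N1N := fun v hv => hv.1
      N1c := fun b hb v hv => M.N1c b hb v hv.1 hv.2
      N01 := M.D_le_Zs
      N0c := fun l hl d hd => M.cD l (hLX hl) d hd
      card := M.card_N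
      card1 := M.card_Zs
      opp := by
        intro l hl hm v hv hlv
        obtain ⟨A, hA⟩ := M.acts l (hLX hl)
        have h0 := (M.mv_iff (hLX hl) hA).1 hm
        have h1 := hlv.2
        rw [hA v hv.1, ap_one', hv.2, mul_zero, add_zero] at h1
        have h2 := (mul_eq_zero.1 h1).resolve_left h0
        have h3 : v ∈ D := (M.ker v hv.1).1 (ext2 h2 hv.2)
        rw [M.cD l (hLX hl) v h3, mul_inv_cancel_right]
        exact h3
      quad := by
        intro b hb v hv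
        obtain ⟨c, hc⟩ := M.up b hb
        have h1 := M.nN b (M.BX hb) v hv
        refine ⟨mul_mem h1 (inv_mem hv), ?_⟩
        rw [M.map_div h1 hv, hc v hv, Pi.sub_apply, ap_one']
        simp
      cent := by
        rintro b hb ⟨w, hw, hne⟩ v hv hvD
        obtain ⟨c, hc⟩ := M.up b hb
        have h1 := M.nN b (M.BX hb) v hv
        have h2 := (M.ker _ (M.DN hvD)).2 hvD
        rw [M.map_div h1 hv, hc v hv] at h2
        have h3 := congrFun h2 0
        rw [Pi.sub_apply, ap_zero'] at h3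
        simp only [up_00, up_01, one_mul, add_sub_cancel_left, Pi.zero_apply, mul_eq_zero] at h3
        refine ⟨hv, h3.resolve_left fun hc0 => hne ?_⟩
        subst hc0
        refine Acts.cent (M := M) (M.BX hb) (fun u hu => ?_) hw
        rw [hc u hu, up_zero]
      cardB := by
        choose f hf using M.up
        have hf' : ∀ b (hb : b ∈ B), M.Acts b (Lib.SL2Mat.up (f b hb)) := fun b hb => hf b hb
        let f' : G → F := fun b => if h : b ∈ B then f b h else 0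
        have hf'' : ∀ b ∈ B, M.Acts b (Lib.SL2Mat.up (f' b)) := by
          intro b hb
          have : f' b = f b hb := dif_pos hb
          rw [this]
          exact hf' b hb
        have huniq : ∀ b ∈ B, ∀ c, M.Acts b (Lib.SL2Mat.up c) → f' b = c := by
          intro b hb c hc
          obtain ⟨v, hv, e⟩ := M.surj ![0, 1]
          have h1 := hf'' b hb v hv
          rw [hc v hv, e] at h1
          have h2 := congrFun h1 0
          rw [ap_zero', ap_zero'] at h2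
          simpa using h2.symm
        refine card_of_hom inf_le_left f' ?_ ?_ ?_
        · intro v hv w hw
          refine huniq _ (mul_mem hv hw) _ ?_
          have h1 := Acts.mul (M := M) (M.BX hw) (hf'' v hv) (hf'' w hw)
          rwa [up_mul] at h1
        · intro c
          obtain ⟨b, hb, hc⟩ := M.upc c
          exact ⟨b, hb, huniq b hb c hc⟩
        · intro b hb
          constructor
          · intro h0
            refine mem_inf.2 ⟨hb, mem_centralizer_iff.2 fun v hv => ?_⟩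
            refine (Acts.cent (M := M) (M.BX hb) ?_ hv).symm
            have h1 := hf'' b hb
            rwa [h0, up_zero] at h1
          · intro h0
            refine huniq b hb 0 ?_
            rw [up_zero]
            exact acts_of_cent fun v hv => (mem_centralizer_iff.1 (mem_inf.1 h0).2 v hv).symm
      one := hq
      mv := hmvL
      gen := by
        intro l hl hm X' hBX' hX'
        obtain ⟨A, hA⟩ := M.acts l (hLX hl)
        have h0 := (M.mv_iff (hLX hl) hA).1 hm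
        obtain ⟨b, hb, hbc⟩ := M.upc 1
        have h1 : X' ⊓ L = L := by
          refine hmin _ (le_inf hBX' hBL) inf_le_right
            ⟨l * b * l⁻¹, mem_inf.2 ⟨hX' b hb, mul_mem (mul_mem hl (hBL hb)) (inv_mem hl)⟩, ?_⟩
          have h2 := Acts.mul (M := M) (inv_mem (hLX hl)) (Acts.mul (M := M) (M.BX hb) hA hbc)
            (Acts.inv (M := M) (hLX hl) hA)
          rw [M.mv_iff (hLX (mul_mem (mul_mem hl (hBL hb)) (inv_mem hl))) h2]
          have e : ent (A * Lib.SL2Mat.up 1 * A⁻¹) 1 0 = -(ent A 1 0) ^ 2 := by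
            rw [ent_mul, ent_mul, ent_mul, up_00, up_01, up_10, up_11, ent_inv A, mk_00, mk_10]
            ring
          rw [e]
          exact neg_ne_zero.2 (pow_ne_zero 2 h0)
        exact h1.ge.trans inf_le_left
      act := fun l hl z hz => M.act l (hLX hl) z hz
      cor := hcor
      syl := fun T h1 h2 h3 => M.syl T h1 (h2.trans hLX) h3
      tor := by
        intro z hz hzc z' hz' hzc'
        have hne : ∀ {y}, y ∈ M.Zs → y ∉ D → M.π y 0 ≠ 0 := fun {y} hy hyc h0 =>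
          hyc ((M.ker y hy.1).1 (ext2 h0 hy.2))
        have h0 := hne hz hzc
        have h0' := hne hz' hzc'
        set t : F := M.π z' 0 / M.π z 0 with ht
        have ht0 : t ≠ 0 := div_ne_zero h0' h0
        obtain ⟨l, hl, hlA⟩ := hcov (dg t ht0)
        -- the group `B K`
        have hBK : B ⊔ K ≤ L := sup_le hBL inf_le_left
        have hmemR : ∀ x ∈ B ⊔ K, ∃ c : F, M.Acts x (Lib.SL2Mat.up c) := by
          intro x hx
          obtain ⟨b, hb, k, hk, rfl⟩ := SQ1.Bau.mem_sup_norm (A := B) (B := K) (fun b hb =>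
            mem_norm_of fun k hk => hKn b (hBL hb) k hk) hx
          obtain ⟨c, hc⟩ := M.up b hb
          have h1 := Acts.mul (M := M) (hLX (mem_inf.1 hk).1) hc (hKact k hk)
          rw [mul_one] at h1
          exact ⟨c, h1⟩
        have hofR : ∀ x ∈ L, ∀ c : F, M.Acts x (Lib.SL2Mat.up c) → x ∈ B ⊔ K := by
          intro x hx c hc
          obtain ⟨b, hb, hbc⟩ := M.upc c
          have h1 : b⁻¹ * x ∈ K := by
            refine mem_inf.2 ⟨mul_mem (inv_mem (hBL hb)) hx, mem_centralizer_iff.2 fun v hv => ?_⟩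
            refine (Acts.cent (M := M) (hLX (mul_mem (inv_mem (hBL hb)) hx)) ?_ hv).symm
            have h2 := Acts.mul (M := M) (hLX hx) (Acts.inv (M := M) (M.BX hb) hbc) hc
            rwa [inv_mul_cancel] at h2
          have e : x = b * (b⁻¹ * x) := by group
          rw [e]
          exact mul_mem (mem_sup_left hb) (mem_sup_right h1)
        have hS1 : Syl B (B ⊔ K) := ⟨le_sup_left, M.B2, fun T hT h2 hBT => M.syl T hBT (hT.trans (hBK.trans hLX)) h2⟩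
        have hS2 : Syl (cj l B) (B ⊔ K) := by
          refine ⟨?_, isPGroup_cj l M.B2, fun T hT h2 hle => ?_⟩
          · rintro _ ⟨b, hb, rfl⟩
            obtain ⟨c, hc⟩ := M.up b hb
            refine hofR _ (mul_mem (mul_mem hl (hBL hb)) (inv_mem hl)) (t ^ 2 * c) ?_
            have h2 := Acts.mul (M := M) (inv_mem (hLX hl)) (Acts.mul (M := M) (M.BX hb) hlA hc)
              (Acts.inv (M := M) (hLX hl) hlA)
            rw [dg_up, mul_inv_cancel_right] at h2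
            exact h2
          · have h3 : cj l⁻¹ T ≤ X := by
              rintro _ ⟨r, hr, rfl⟩
              exact mul_mem (mul_mem (inv_mem (hLX hl)) (hLX (hBK (hT hr)))) (inv_mem (inv_mem (hLX hl)))
            have h4 := M.syl _ (cj_le_iff.1 hle) h3 (isPGroup_cj _ h2)
            rw [← h4, cj_cj_inv]
        obtain ⟨x, hx, e⟩ := syl_conj hS2 hS1
        rw [cj_cj] at e
        obtain ⟨c, hc⟩ := hmemR x hx
        have hxL := hBK hx
        refine ⟨x * l, mul_mem hxL hl, mem_normalizer_iff_cj.2 e, ?_⟩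
        have h1 := Acts.mul (M := M) (hLX hl) hc hlA
        have h3 := M.nN _ (hLX (mul_mem hxL hl)) z hz.1
        refine (M.ker _ (mul_mem h3 (inv_mem hz'.1))).1 ?_
        rw [M.map_div h3 hz'.1, h1 z hz.1]
        apply ext2
        · rw [Pi.sub_apply, ap_zero', hz.2]
          simp [ent_mul, ht, div_mul_cancel₀ _ h0]
        · rw [Pi.sub_apply, ap_one', hz.2, hz'.2]
          simp [ent_mul] }

end NXD

/-! ### The input over a pair `(B, ZJ)` -/

/-- `Y ≥ B` acts on `N / D` as a subgroup of `SL₂(F)`, `N ∩ ZJ` is the line; `g ∈ Y` moves the line, `[ZJ, g] ≤ N`. -/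
structure NXI (F : Type*) [Field F] (B ZJ Y N D : Subgroup G) (g : G) where
  π : G → Fin 2 → F
  mul : ∀ v ∈ N, ∀ w ∈ N, π (v * w) = π v + π w
  ker : ∀ v ∈ N, π v = 0 ↔ v ∈ D
  DN : D ≤ N
  surj : ∀ x, ∃ v ∈ N, π v = x
  el : IsElementaryAbelian 2 N
  NB : N ≤ B
  B2 : IsPGroup 2 B
  zcB : zc B = ZJ
  cB : ∀ b ∈ B, ∀ z ∈ ZJ, b * z = z * b
  wn : ∀ R : Subgroup G, IsPGroup 2 R → B ≤ R → R ≤ normalizer (B : Set G)
  sylB : ∀ R : Subgroup G, IsPGroup 2 R → B ≤ R → R ≤ centralizer (ZJ : Set G) → R = B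
  N1 : ∀ v ∈ N, π v 1 = 0 ↔ v ∈ ZJ
  BY : B ≤ Y
  gY : g ∈ Y
  nN : ∀ l ∈ Y, ∀ v ∈ N, l * v * l⁻¹ ∈ N
  cD : ∀ l ∈ Y, ∀ d ∈ D, l * d = d * l
  acts : ∀ l ∈ Y, ∃ A : Matrix.SpecialLinearGroup (Fin 2) F, ∀ v ∈ N, π (l * v * l⁻¹) = ap A (π v)
  triv : ∀ l ∈ Y, (∀ v ∈ N, π (l * v * l⁻¹) = π v) → ∀ v ∈ N, l * v = v * l
  up : ∀ b ∈ B, ∃ c : F, ∀ v ∈ N, π (b * v * b⁻¹) = ap (up c) (π v)
  upc : ∀ c : F, ∃ b ∈ B, ∀ v ∈ N, π (b * v * b⁻¹) = ap (Lib.SL2Mat.up c) (π v)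
  gz : ∀ z ∈ ZJ, g⁻¹ * z * g * z⁻¹ ∈ N
  gm : ∃ v ∈ N, π v 1 = 0 ∧ π (g * v * g⁻¹) 1 ≠ 0

namespace NXI

variable {F : Type*} [Field F] {B ZJ Y N D : Subgroup G} {g : G} (M : NXI F B ZJ Y N D g)

theorem map_one : M.π 1 = 0 := by
  have := M.mul 1 (one_mem N) 1 (one_mem N)
  rw [one_mul] at this
  exact left_eq_add.1 this

theorem map_inv {v : G} (hv : v ∈ N) : M.π v⁻¹ = - M.π v := by
  have := M.mul v hv v⁻¹ (inv_mem hv)
  rw [mul_inv_cancel, M.map_one] at this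
  exact (neg_eq_of_add_eq_zero_right this.symm).symm

include M in
theorem cjB_le : cj g B ≤ Y := by
  rintro _ ⟨b, hb, rfl⟩
  exact mul_mem (mul_mem M.gY (M.BY hb)) (inv_mem M.gY)

include M in
theorem XY : B ⊔ cj g B ≤ Y := sup_le M.BY M.cjB_le

include M in
theorem cent_H0 {l h : G} (hl : l ∈ B ⊔ cj g B) (hh : h ∈ ZJ ⊓ cj g ZJ) : l * h = h * l := by
  have h1 : B ⊔ cj g B ≤ centralizer {h} := by
    refine sup_le (fun b hb => ?_) ?_
    · rw [mem_centralizer_singleton_iff]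
      exact M.cB b hb h hh.1
    · rintro _ ⟨b, hb, rfl⟩
      rw [mem_centralizer_singleton_iff]
      have h2 := M.cB b hb _ (mem_cj.1 hh.2)
      have h3 := congrArg (fun t => g * t * g⁻¹) h2
      simpa [mul_assoc] using h3
  exact mem_centralizer_singleton_iff.1 (h1 hl)

include M in
/-- `ZJ = H₀ N₁`, `H₀ = ZJ ∩ ZJ^g`. -/
theorem split {z : G} (hz : z ∈ ZJ) : ∃ h ∈ ZJ ⊓ cj g ZJ, ∃ m ∈ N, m ∈ ZJ ∧ z = h * m := by
  obtain ⟨A, hA⟩ := M.acts g M.gY
  obtain ⟨v0, hv0, h10, hne⟩ := M.gm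
  have hc : ent A 1 0 ≠ 0 := by
    intro h0
    apply hne
    rw [hA v0 hv0, ap_one', h0, h10]; simp
  have hAi : ∀ v ∈ N, M.π (g⁻¹ * v * g) = ap A⁻¹ (M.π v) := by
    intro v hv
    have h1 := M.nN g⁻¹ (inv_mem M.gY) v hv
    rw [inv_inv] at h1
    have h2 := hA _ h1
    have e : g * (g⁻¹ * v * g) * g⁻¹ = v := by group
    rw [e] at h2
    rw [h2, ap_inv_ap]
  have hn := M.gz z hz
  obtain ⟨n, hn0⟩ : ∃ n, n = g⁻¹ * z * g * z⁻¹ := ⟨_, rfl⟩
  rw [← hn0] at hn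
  obtain ⟨m, hm, em⟩ := M.surj ![M.π n 1 / ent A 1 0, 0]
  have hmZ : m ∈ ZJ := (M.N1 m hm).1 (by rw [em]; rfl)
  have hgm : g⁻¹ * m * g ∈ N := by
    have := M.nN g⁻¹ (inv_mem M.gY) m hm
    rwa [inv_inv] at this
  have h1 : n * (g⁻¹ * m * g) ∈ ZJ := by
    refine (M.N1 _ (mul_mem hn hgm)).1 ?_
    rw [M.mul n hn _ hgm, hAi m hm, em, Pi.add_apply, ap_one', ent_inv A, mk_10]
    simp [mul_div_cancel₀ _ hc]
  have h2 : z * m ∈ ZJ ⊓ cj g ZJ := by
    refine mem_inf.2 ⟨mul_mem hz hmZ, ?_⟩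
    rw [mem_cj]
    have e : g⁻¹ * (z * m) * g = n * z * (g⁻¹ * m * g) := by rw [hn0]; group
    have e2 : n * z = z * n := M.cB n (M.NB hn) z hz
    rw [e, e2, mul_assoc]
    exact mul_mem hz h1
  exact ⟨z * m, h2, m⁻¹, inv_mem hm, inv_mem hmZ, by group⟩

/-- `X = ⟨B, B^g⟩`. -/
def nxd [Finite G] [Finite F] [CharP F 2] : NXD F B (B ⊔ cj g B) N D where
  π := M.π
  mul := M.mul
  ker := M.ker
  DN := M.DN
  surj := M.surj
  el := M.el
  NB := M.NB
  B2 := M.B2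
  BX := le_sup_left
  nN := fun l hl => M.nN l (M.XY hl)
  cD := fun l hl => M.cD l (M.XY hl)
  acts := fun l hl => M.acts l (M.XY hl)
  triv := fun l hl => M.triv l (M.XY hl)
  up := M.up
  upc := M.upc
  N1c := fun b hb v hv h0 => M.cB b hb v ((M.N1 v hv).1 h0)
  mv := by
    obtain ⟨A, hA⟩ := M.acts g M.gY
    obtain ⟨v0, hv0, h10, hne⟩ := M.gm
    have hc : ent A 1 0 ≠ 0 := by
      intro h0
      apply hne
      rw [hA v0 hv0, ap_one', h0, h10]; simp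
    obtain ⟨b, hb, hbc⟩ := M.upc 1
    refine ⟨g * b * g⁻¹, mem_sup_right ⟨b, hb, rfl⟩, ?_⟩
    obtain ⟨v, hv, e⟩ := M.surj ![1, 0]
    refine ⟨v, hv, by rw [e]; rfl, ?_⟩
    have h1 := M.nN g⁻¹ (inv_mem M.gY) v hv
    rw [inv_inv] at h1
    have h2 := M.nN b (M.BY hb) _ h1
    have e1 : g * b * g⁻¹ * v * (g * b * g⁻¹)⁻¹ = g * (b * (g⁻¹ * v * g) * b⁻¹) * g⁻¹ := by group
    have h3 : M.π (g⁻¹ * v * g) = ap A⁻¹ (M.π v) := by
      have h4 := hA _ h1
      have e2 : g * (g⁻¹ * v * g) * g⁻¹ = v := by group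
      rw [e2] at h4
      rw [h4, ap_inv_ap]
    rw [e1, hA _ h2, hbc _ h1, h3, e, ent_inv A]
    simp only [ap_zero', ap_one', mk_00, mk_01, mk_10, mk_11, up_00, up_01, up_10, up_11]
    intro h5
    apply hc
    have h6 : (ent A 1 0) ^ 2 = 0 := by
      simp only [Matrix.cons_val_zero, Matrix.cons_val_one] at h5
      linear_combination -h5
    exact pow_eq_zero_iff two_ne_zero |>.1 h6
  syl := by
    intro R hR hRX h2
    refine M.sylB R h2 hR fun r hr => ?_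
    have hrY := M.XY (hRX hr)
    have hrB := M.wn R h2 hR hr
    have hrZ : r ∈ normalizer (ZJ : Set G) := by
      rw [← M.zcB]
      exact normalizer_le_of_cj (F := zc) LemmaK.Main.zc_cj B hrB
    obtain ⟨A, hA⟩ := M.acts r hrY
    have h10 : ent A 1 0 = 0 := by
      obtain ⟨v, hv, e⟩ := M.surj ![1, 0]
      have hvZ : v ∈ ZJ := (M.N1 v hv).1 (by rw [e]; rfl)
      have h5 := (M.N1 _ (M.nN r hrY v hv)).2 ((mem_normalizer_iff.1 hrZ v).1 hvZ)
      rw [hA v hv, e, ap_one'] at h5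
      simpa using h5
    have h00 : ent A 0 0 = 1 := by
      obtain ⟨n, hn⟩ := h2 ⟨r, hr⟩
      have hn' : r ^ 2 ^ n = 1 := by simpa using congrArg Subtype.val hn
      have hpow : ∀ m : ℕ, ∀ v ∈ N, M.π (r ^ m * v * (r ^ m)⁻¹) = ap (A ^ m) (M.π v) := by
        intro m
        induction m with
        | zero => intro v _; simp [ap_one]
        | succ m ih =>
          intro v hv
          have e : r ^ (m + 1) * v * (r ^ (m + 1))⁻¹ = r ^ m * (r * v * r⁻¹) * (r ^ m)⁻¹ := by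
            rw [pow_succ]; group
          rw [e, ih _ (M.nN r hrY v hv), hA v hv, pow_succ, ap_mul]
      have h7 : ∀ m : ℕ, ent (A ^ m) 1 0 = 0 ∧ ent (A ^ m) 0 0 = ent A 0 0 ^ m := by
        intro m
        induction m with
        | zero => rw [pow_zero, pow_zero]; exact ⟨rfl, rfl⟩
        | succ m ih =>
          rw [pow_succ, ent_mul, ent_mul, h10, ih.1, ih.2, pow_succ]
          simp
      obtain ⟨v, hv, e⟩ := M.surj ![1, 0]
      have h6 := hpow (2 ^ n) v hv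
      rw [hn', one_mul, inv_one, mul_one, e] at h6
      have h8 := congrFun h6 0
      rw [ap_zero', (h7 (2 ^ n)).2] at h8
      have h8' : ent A 0 0 ^ 2 ^ n = 1 := by simpa using h8.symm
      have h9 : (ent A 0 0 - 1) ^ 2 ^ n = 0 := by
        have := sub_pow_char_pow (p := 2) (n := n) (ent A 0 0) (1 : F)
        rw [this, h8', one_pow, sub_self]
      have h11 := pow_eq_zero_iff (pow_ne_zero n two_ne_zero) |>.1 h9
      exact sub_eq_zero.1 h11
    obtain ⟨x, rfl⟩ : ∃ x, A = Lib.SL2Mat.up x := by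
      refine ⟨ent A 0 1, ?_⟩
      have h11 := det_eq A
      rw [h10, h00, mul_zero, sub_zero, one_mul] at h11
      exact ext_ent (by rw [up_00, h00]) (by rw [up_01]) (by rw [up_10, h10]) (by rw [up_11, h11])
    obtain ⟨b, hb, hbc⟩ := M.upc x
    -- `u = b⁻¹ r` centralises `N`
    have huY : b⁻¹ * r ∈ Y := mul_mem (inv_mem (M.BY hb)) hrY
    have huN : ∀ v ∈ N, b⁻¹ * r * v = v * (b⁻¹ * r) := by
      refine M.triv _ huY fun v hv => ?_
      have h1 := M.nN r hrY v hv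
      have h3 := M.nN b⁻¹ (inv_mem (M.BY hb)) _ h1
      have h4 := hbc _ h3
      have e1 : b * (b⁻¹ * (r * v * r⁻¹) * b⁻¹⁻¹) * b⁻¹ = r * v * r⁻¹ := by group
      rw [e1, hA v hv] at h4
      have e2 : b⁻¹ * r * v * (b⁻¹ * r)⁻¹ = b⁻¹ * (r * v * r⁻¹) * b⁻¹⁻¹ := by group
      rw [e2]
      have h5 := congrArg (ap (Lib.SL2Mat.up x)⁻¹) h4
      rw [ap_inv_ap, ap_inv_ap] at h5
      exact h5.symm
    have huX : b⁻¹ * r ∈ B ⊔ cj g B := mul_mem (inv_mem (mem_sup_left hb)) (hRX hr)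
    rw [mem_centralizer_iff]
    intro z hz
    obtain ⟨h, hh, m, hm, -, e⟩ := M.split hz
    have c1 : Commute (b⁻¹ * r) h := M.cent_H0 huX hh
    have c2 : Commute (b⁻¹ * r) m := huN m hm
    have c3 : Commute (b⁻¹ * r) z := by rw [e]; exact c1.mul_right c2
    have c4 : Commute b z := M.cB b hb z hz
    have c5 := c4.mul_left c3
    rw [mul_inv_cancel_left] at c5
    exact c5.eq.symm
  act := by
    intro l hl z hz
    rw [M.zcB] at hz
    obtain ⟨h, hh, m, hm, hmZ, rfl⟩ := M.split hz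
    have c1 : l * h = h * l := M.cent_H0 hl hh
    have h1 : l * m * l⁻¹ * m⁻¹ ∈ N := mul_mem (M.nN l (M.XY hl) m hm) (inv_mem hm)
    have c2 : (l * m * l⁻¹ * m⁻¹) * h = h * (l * m * l⁻¹ * m⁻¹) := M.cB _ (M.NB h1) h hh.1
    have e : l * (h * m) * l⁻¹ * (h * m)⁻¹ = l * m * l⁻¹ * m⁻¹ := by
      calc l * (h * m) * l⁻¹ * (h * m)⁻¹ = (l * h) * m * l⁻¹ * m⁻¹ * h⁻¹ := by group
        _ = h * (l * m * l⁻¹ * m⁻¹) * h⁻¹ := by rw [c1]; group
        _ = _ := by rw [← c2, mul_inv_cancel_right]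
    rw [e]
    exact h1

/-- **Blocks from one element `g`.** -/
theorem exists_pb [Finite G] [Finite F] [CharP F 2] :
    ∃ L, B ≤ L ∧ L ≤ Y ∧ PB B L N (N ⊓ ZJ) D (Nat.card F) ∧
      ∀ A : Matrix.SpecialLinearGroup (Fin 2) F, ∃ l ∈ L, ∀ v ∈ N, M.π (l * v * l⁻¹) = ap A (M.π v) := by
  obtain ⟨L, h1, h2, h3, h4⟩ := M.nxd.exists_pb
  have e : M.nxd.Zs = N ⊓ ZJ := by
    ext v
    constructor
    · rintro ⟨hv, h0⟩
      exact ⟨hv, (M.N1 v hv).1 h0⟩
    · rintro ⟨hv, h0⟩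
      exact ⟨hv, (M.N1 v hv).2 h0⟩
  rw [e] at h3
  exact ⟨L, h1, h2.trans M.XY, h3, h4⟩

end NXI

end Cfsg.Agent.Omega.OM.BIn

end

section


/-!
# Natural blocks over `B = C_T(Z_J)` in a minimal parabolic `H` over `T`, at a level (general pair `(T, H)`)

`GE T H X AA`, `N : NatKM` (`V / C_V(O²(H))` a sum of `k` natural `SL₂(F)`-modules), `Z_J = C_X(AA) = Ω₁Z(B)`,
`B = C_T(Z_J)` weakly closed and a Sylow 2-subgroup of `C_G(Z_J)`:

* `cent_N`, `act_one` : elements acting as `A`, `A i = 1`, centralise the preimage of the `i`-th summand;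
* `exists_pb` : a block `L ≤ H` over `B` (`PB B L N N₁ D |F|`), `H = ⟨T, L⟩`.
-/

set_option autoImplicit false
set_option linter.unusedSectionVars false

namespace Cfsg.Agent.Omega.OM.GNat

open Subgroup Cfsg Cfsg.Agent.PLocal.ThompsonJ Cfsg.Agent.ZN Cfsg.Agent.ZN.ChoiceBase Cfsg.Agent.ZN.ChoiceSit
open Cfsg.Agent.PLocal.ElemAbSup
open Cfsg.Agent.Omega.SQ1.Bau (mem_sup_comm card_sup_comm elem_comm elem_sq)
open Cfsg.Agent.Omega.NatPair (ap ap_zero' ap_one' ap_one ap_mul ext2 ap_inv_ap ap_inj)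
open Cfsg.Agent.Lib.SL2Mat
open Cfsg.Agent.Omega.SQ1.FFOne (MinH)
open Cfsg.Agent.Omega.NO3S.OneLine (NatC natC_of)
open Cfsg.Agent.Omega.NO3S.OneLine.NatC (acts_mul acts_inv acts_one acts_unique)
open Cfsg.Agent.Omega.OM.Lev.Nat (Wn Xn mem_Wn mem_Xn exists_up ap_z)
open Cfsg.Agent.Omega.OM.GLev
open Cfsg.Agent.Omega.OM.BIn (NXI)
open Cfsg.Agent.Omega.FFThm (NatK NatKM ActsSL OffM)
open Cfsg.Agent.Omega.FrameFF (cv)

universe u

/-- A subset of `SL₂(F)` closed under products and inverses which contains the upper unitriangular matrices and one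
matrix which is not upper triangular is everything. -/
theorem sl2_all {F : Type*} [Field F] (P : Matrix.SpecialLinearGroup (Fin 2) F → Prop)
    (hmul : ∀ A B, P A → P B → P (A * B)) (hinv : ∀ A, P A → P A⁻¹) (hup : ∀ c, P (up c))
    {A₀ : Matrix.SpecialLinearGroup (Fin 2) F} (h0 : P A₀) (hc : ent A₀ 1 0 ≠ 0) (A) : P A := by
  have hlo0 : P (lo (ent A₀ 1 0)) := by
    obtain ⟨a, d, h1⟩ : ∃ a d : F, A₀ = up a * lo (ent A₀ 1 0) * up d := ⟨_, _, eq_up_lo_up A₀ hc⟩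
    have h2 : (up a)⁻¹ * A₀ * (up d)⁻¹ = lo (ent A₀ 1 0) := by
      rw [mul_inv_eq_iff_eq_mul, inv_mul_eq_iff_eq_mul, ← mul_assoc]
      exact h1
    rw [← h2]
    exact hmul _ _ (hmul _ _ (hinv _ (hup _)) h0) (hinv _ (hup _))
  have hc' : -(ent A₀ 1 0)⁻¹ ≠ 0 := neg_ne_zero.2 (inv_ne_zero hc)
  have hwm : P (wm (-(ent A₀ 1 0)⁻¹) hc') := by
    rw [wm_eq]
    have e : -(-(ent A₀ 1 0)⁻¹)⁻¹ = ent A₀ 1 0 := by rw [inv_neg, neg_neg, inv_inv]
    rw [e]
    exact hmul _ _ (hmul _ _ hlo0 (hup _)) hlo0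
  have hlo : ∀ c : F, P (lo c) := by
    intro c
    have h1 := wm_up (-(ent A₀ 1 0)⁻¹) (-(c * (-(ent A₀ 1 0)⁻¹) ^ 2)) hc'
    have e : -(-(c * (-(ent A₀ 1 0)⁻¹) ^ 2) / (-(ent A₀ 1 0)⁻¹) ^ 2) = c := by
      field_simp
    rw [e] at h1
    have h2 : lo c = wm (-(ent A₀ 1 0)⁻¹) hc' * up (-(c * (-(ent A₀ 1 0)⁻¹) ^ 2)) *
        (wm (-(ent A₀ 1 0)⁻¹) hc')⁻¹ := by rw [h1, mul_inv_cancel_right]
    rw [h2]
    exact hmul _ _ (hmul _ _ hwm (hup _)) (hinv _ hwm)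
  obtain ⟨a, b, c, d, rfl⟩ := exists_up_lo A
  exact hmul _ _ (hmul _ _ (hmul _ _ (hup a) (hlo b)) (hup c)) (hlo d)

variable {G : Type u} [Group G] [Finite G]

section natc

variable {F : Type} [Field F] {T H V D : Subgroup G} {k : ℕ} (M : NatC F T H V D k)
include M

theorem cent_N [CharP F 2] (hm : MinH H T) {h : G} (hh : h ∈ H)
    {A : Fin k → Matrix.SpecialLinearGroup (Fin 2) F} (hA : M.Acts h A)
    (hD : ∀ d ∈ D, h * d = d * h) {i : Fin k} (hi : A i = 1) {n : G} (hn : n ∈ V)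
    (hn0 : ∀ j, j ≠ i → M.nat.e n j = 0) : h * n = n * h := by
  classical
  have hneg : (-1 : F) = 1 := CharTwo.neg_eq 1
  set B0 : Matrix.SpecialLinearGroup (Fin 2) F :=
    Cfsg.Agent.Lib.SL2Mat.mk 0 1 1 1 (by rw [zero_mul, one_mul, zero_sub]; exact hneg) with hB0
  set U : Fin k → Matrix.SpecialLinearGroup (Fin 2) F := Function.update 1 i B0 with hU
  obtain ⟨g, hg, hgA, hgD⟩ := M.nat.lift U
  have hgA' : M.Acts g U := hgA
  -- the commutator centralises `V`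
  set x := g * h * g⁻¹ * h⁻¹ with hx
  have hxs : x ∈ M.stab := by
    refine ⟨mul_mem (mul_mem (mul_mem hg hh) (inv_mem hg)) (inv_mem hh), ?_, fun d hd => ?_⟩
    · have h1 := acts_mul (inv_mem hh) (acts_mul (inv_mem hg) (acts_mul hh hgA' hA)
        (acts_inv hg hgA')) (acts_inv hh hA)
      have e : U * A * U⁻¹ * A⁻¹ = 1 := by
        funext j
        show U j * A j * (U j)⁻¹ * (A j)⁻¹ = 1
        by_cases hj : j = i
        · rw [hj, hi]
          group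
        · have : U j = 1 := by rw [hU, Function.update_of_ne hj]; rfl
          rw [this]
          group
      rwa [e] at h1
    · have e1 : Commute g d := hgD d hd
      have e2 : Commute h d := hD d hd
      exact (((e1.mul_left e2).mul_left e1.inv_left).mul_left e2.inv_left).eq
  have hxc : ∀ v ∈ V, x * v = v * x := fun v hv => M.cent_of_stab hm hxs hv
  -- choose `v`
  set y : Fin k → Fin 2 → F := Function.update 0 i ![M.nat.e n i 1, M.nat.e n i 0 + M.nat.e n i 1]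
    with hy
  obtain ⟨v, hv, hev⟩ := M.nat.surj y
  have hgv := M.Vn g hg v hv
  have hhv := M.Vn h hh v hv
  -- `δ(v)`
  set δ := h * v * h⁻¹ * v⁻¹ with hδ
  have hδD : δ ∈ D := by
    rw [← M.nat.ker _ (mul_mem hhv (inv_mem hv)), M.map_div hhv hv]
    funext j
    rw [Pi.sub_apply, hA v hv j, hev]
    by_cases hj : j = i
    · subst hj
      rw [hi, ap_one, sub_self]; rfl
    · have : y j = 0 := by rw [hy, Function.update_of_ne hj]; rfl
      rw [this]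
      have e0 : ap (A j) 0 = 0 := by apply ext2 <;> simp [ap_zero', ap_one']
      rw [e0, sub_self]; rfl
  have e1 : h * (g * v * g⁻¹) * h⁻¹ = δ * (g * v * g⁻¹) := by
    have e2 : h * (g * v * g⁻¹) * h⁻¹ = x⁻¹ * (g * (h * v * h⁻¹) * g⁻¹) * x := by
      rw [hx]; group
    have e3 : h * v * h⁻¹ = δ * v := by rw [hδ]; group
    have h4 : g * (h * v * h⁻¹) * g⁻¹ ∈ V := M.Vn g hg _ hhv
    have e5 : x⁻¹ * (g * (h * v * h⁻¹) * g⁻¹) * x = g * (h * v * h⁻¹) * g⁻¹ := by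
      rw [mul_assoc, ← hxc _ h4, inv_mul_cancel_left]
    rw [e2, e5, e3]
    have e6 : g * (δ * v) * g⁻¹ = (g * δ * g⁻¹) * (g * v * g⁻¹) := by group
    rw [e6, hgD δ hδD, mul_inv_cancel_right]
  -- `h` commutes with `g v g⁻¹ v⁻¹`
  set c := g * v * g⁻¹ * v⁻¹ with hc
  have hcV : c ∈ V := mul_mem hgv (inv_mem hv)
  have h6 : h * c * h⁻¹ = c := by
    have e7 : h * c * h⁻¹ = (h * (g * v * g⁻¹) * h⁻¹) * (h * v * h⁻¹)⁻¹ := by rw [hc]; group
    have e3 : h * v * h⁻¹ = δ * v := by rw [hδ]; group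
    rw [e7, e1, e3, mul_inv_rev]
    have e8 : δ * (g * v * g⁻¹) * (v⁻¹ * δ⁻¹) = δ * c * δ⁻¹ := by rw [hc]; group
    rw [e8, M.Vcomm (M.DV hδD) hcV, mul_inv_cancel_right]
  -- `n = c d`
  have hd : c⁻¹ * n ∈ D := by
    rw [← M.nat.ker _ (mul_mem (inv_mem hcV) hn), M.nat.mul _ (inv_mem hcV) n hn, M.map_inv hcV, hc,
      M.map_div hgv hv]
    funext j
    rw [Pi.add_apply, Pi.neg_apply, Pi.sub_apply, hgA' v hv j, hev]
    by_cases hj : j = i
    · subst hj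
      rw [hU, Function.update_self]
      have hyj : y j = ![M.nat.e n j 1, M.nat.e n j 0 + M.nat.e n j 1] := by
        rw [hy, Function.update_self]
      have hB : ∀ z : Fin 2 → F, ap B0 z = ![z 1, z 0 + z 1] := by
        intro z
        apply ext2
        · rw [ap_zero', hB0, mk_00, mk_01, zero_mul, one_mul, zero_add]; rfl
        · rw [ap_one', hB0, mk_10, mk_11, one_mul, one_mul]; rfl
      rw [hyj, hB]
      apply ext2
      · show -((M.nat.e n j 0 + M.nat.e n j 1) - M.nat.e n j 1) + M.nat.e n j 0 = 0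
        ring
      · show -((M.nat.e n j 1 + (M.nat.e n j 0 + M.nat.e n j 1)) -
          (M.nat.e n j 0 + M.nat.e n j 1)) + M.nat.e n j 1 = 0
        ring
    · rw [hU, Function.update_of_ne hj]
      have : y j = 0 := by rw [hy, Function.update_of_ne hj]; rfl
      rw [this, hn0 j hj, Pi.one_apply, ap_one]
      simp
  have e9 : n = c * (c⁻¹ * n) := by group
  have h7 : Commute h c := by
    show h * c = c * h
    calc h * c = h * c * h⁻¹ * h := by group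
      _ = c * h := by rw [h6]
  have h8 : Commute h (c⁻¹ * n) := hD _ hd
  rw [e9]
  exact (h7.mul_right h8).eq

/-- the elements of a subgroup acting as `A` and centralising `D` -/
def Has (K : Subgroup G) (A : Fin k → Matrix.SpecialLinearGroup (Fin 2) F) : Prop :=
  ∃ l ∈ K, l ∈ H ∧ ActsSL M.nat.e V D l A

omit [Finite G] in
theorem Has.mul {K : Subgroup G} {A B : Fin k → Matrix.SpecialLinearGroup (Fin 2) F} (hA : Has M K A)
    (hB : Has M K B) : Has M K (A * B) := by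
  obtain ⟨a, ha, haH, haA, haD⟩ := hA
  obtain ⟨b, hb, hbH, hbB, hbD⟩ := hB
  refine ⟨a * b, mul_mem ha hb, mul_mem haH hbH, acts_mul (M := M) hbH haA hbB, fun d hd => ?_⟩
  have e1 : Commute a d := haD d hd
  have e2 : Commute b d := hbD d hd
  exact (e1.mul_left e2).eq

omit [Finite G] in
theorem Has.inv {K : Subgroup G} {A : Fin k → Matrix.SpecialLinearGroup (Fin 2) F} (hA : Has M K A) :
    Has M K A⁻¹ := by
  obtain ⟨a, ha, haH, haA, haD⟩ := hA
  refine ⟨a⁻¹, inv_mem ha, inv_mem haH, acts_inv (M := M) haH haA, fun d hd => ?_⟩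
  have e1 : Commute a d := haD d hd
  exact e1.inv_left.eq

omit [Finite G] in
theorem Has.one {K : Subgroup G} : Has M K 1 :=
  ⟨1, one_mem _, one_mem _, acts_one (M := M), fun d _ => by rw [one_mul, mul_one]⟩

omit [Finite G] in
theorem has_all {K : Subgroup G} (h : ∀ i (A : Matrix.SpecialLinearGroup (Fin 2) F), Has M K (Pi.mulSingle i A))
    (A : Fin k → Matrix.SpecialLinearGroup (Fin 2) F) : Has M K A := by
  classical
  have key : ∀ s : Finset (Fin k), Has M K fun i => if i ∈ s then A i else 1 := by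
    intro s
    induction s using Finset.induction_on with
    | empty =>
      have := Has.one M (K := K)
      convert this using 1
      funext i
      simp
    | insert j s hj ih =>
      have h1 := Has.mul M (h j (A j)) ih
      convert h1 using 1
      funext i
      by_cases hij : i = j
      · subst hij
        simp [hj]
      · simp [Finset.mem_insert, hij]
  have := key Finset.univ
  convert this using 1
  funext i
  simp

end natc

section main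

variable {F : Type} [Field F] [Finite F] [CharP F 2] {T H X B ZJ : Subgroup G} {AA : Set (Subgroup G)} {k : ℕ}

/-- the product of the lines is in `ZJ` -/
theorem line_le (h : GE T H X AA) (b : BZ T X AA B ZJ) (N : NatKM F T H (zl T H) (cv T H) k) (hk : 0 < k) {v : G}
    (hv : v ∈ zl T H) (hl : ∀ i, N.e v i 1 = 0) : v ∈ ZJ := by
  refine (b.mem_ZJ v).2 ⟨h.VX hv, fun A hA a ha => ?_⟩
  by_cases hAQ : A ≤ o2 H
  · exact h.comm_Q a (hAQ ha) v hv
  · have hoff := h.offM hA hAQ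
    obtain ⟨I, h1, h2⟩ := N.offM A (h.fam.le A hA) hoff
    exact (natC_of h.hm hk N.toNatK).cent_line h.hm (h.fam.le A hA) hoff.le h1 h2 hv hl ha

/-- some member of the family contains a full root group -/
theorem exists_root (h : GE T H X AA) (N : NatKM F T H (zl T H) (cv T H) k) (hk : 0 < k) {A : Subgroup G}
    (hA : A ∈ AA) (hAQ : ¬ A ≤ o2 H) :
    ∃ j, ∀ c : F, ∃ a ∈ A, ActsSL N.e (zl T H) (cv T H) a (Pi.mulSingle j (up c)) := by
  classical
  set M := natC_of h.hm hk N.toNatK with hM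
  obtain ⟨I, h1, h2⟩ := N.offM A (h.fam.le A hA) (h.offM hA hAQ)
  obtain ⟨i, hi⟩ : I.Nonempty := by
    by_contra hcon
    rw [Set.not_nonempty_iff_eq_empty] at hcon
    apply (h.offM hA hAQ).ne
    intro a ha
    obtain ⟨b, hb0, hb⟩ := h1 a ha
    have hb1 : b = 0 := by
      funext l
      exact hb0 l (by rw [hcon]; simp)
    subst hb1
    have hs : a ∈ M.stab := by
      refine ⟨h.TH (h.fam.le A hA ha), fun w hw l => ?_, hb.2⟩
      have h5 : N.e (a * w * a⁻¹) l = ap (up ((0 : Fin k → F) l)) (N.e w l) := hb.1 w hw l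
      rw [Pi.zero_apply, up_zero] at h5
      exact h5
    exact mem_centralizer_iff.2 fun w hw => (M.cent_of_stab h.hm hs hw).symm
  refine ⟨i, fun c => ?_⟩
  obtain ⟨a, ha, hac⟩ := h2 (Pi.single i c) fun l hl => by
    rw [Pi.single_eq_of_ne]
    rintro rfl
    exact hl hi
  rw [NO3S.OneLine.single_acts] at hac
  exact ⟨a, ha, hac⟩

/-- **The block input.** -/
theorem exists_nxi (h : GE T H X AA) (b : BZ T X AA B ZJ) (N : NatKM F T H (zl T H) (cv T H) k) (hk : 0 < k)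
    {A : Subgroup G} (hA : A ∈ AA) {j : Fin k}
    (hroot : ∀ c : F, ∃ a ∈ A, ActsSL N.e (zl T H) (cv T H) a (Pi.mulSingle j (up c))) :
    ∃ g, ∃ M' : NXI F B ZJ (Xn (natC_of h.hm hk N.toNatK) j ⊓ centralizer (cv T H : Set G))
      (Wn (natC_of h.hm hk N.toNatK) j) (cv T H) g, ∀ x, M'.π x = N.e x j := by
  classical
  set M := natC_of h.hm hk N.toNatK with hM
  have hTH := h.TH
  have hAT := h.fam.le A hA
  have hDV : cv T H ≤ zl T H := M.DV
  have hDZ : cv T H ≤ ZJ := fun d hd => line_le h b N hk (hDV hd) fun i => by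
    have : N.e d = 0 := (N.ker d (hDV hd)).2 hd
    rw [this]; rfl
  have hZX : ∀ z ∈ ZJ, z ∈ X := fun z hz => ((b.mem_ZJ z).1 hz).1
  have hVB : zl T H ≤ B := fun v hv => b.mem_B (h.QT (M.VQ hv)) fun z hz => h.Xc v (h.VX hv) z (hZX z hz)
  obtain ⟨w, hw, hwA, hwD⟩ := N.lift (Pi.mulSingle j (wm 1 one_ne_zero))
  obtain ⟨a₁, ha₁, haA, haD⟩ := hroot 1
  have haH : a₁ ∈ H := hTH (hAT ha₁)
  set g := w * a₁ * w⁻¹ with hg
  have hgH : g ∈ H := mul_mem (mul_mem hw haH) (inv_mem hw)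
  have hgA : M.Acts g (Pi.mulSingle j (lo (-1))) := by
    have h1 := acts_mul (M := M) (inv_mem hw) (acts_mul (M := M) haH hwA haA) (acts_inv (M := M) hw hwA)
    have e : (Pi.mulSingle j (wm (1 : F) one_ne_zero) : Fin k → Matrix.SpecialLinearGroup (Fin 2) F) *
        Pi.mulSingle j (up 1) * (Pi.mulSingle j (wm (1 : F) one_ne_zero))⁻¹ = Pi.mulSingle j (lo (-1)) := by
      rw [← Pi.mulSingle_inv, ← Pi.mulSingle_mul, ← Pi.mulSingle_mul, wm_up, mul_inv_cancel_right]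
      simp
    rw [e] at h1
    exact h1
  have hgD : ∀ d ∈ cv T H, g * d = d * g := fun d hd => by
    have e1 : Commute w d := hwD d hd
    have e2 : Commute a₁ d := haD d hd
    exact ((e1.mul_left e2).mul_left e1.inv_left).eq
  have hsurj : ∀ x : Fin 2 → F, ∃ v ∈ Wn M j, N.e v j = x := fun x => by
    obtain ⟨v, hv, e⟩ := N.surj (Function.update 0 j x)
    exact ⟨v, ⟨hv, fun i hi => by
      show N.e v i = 0
      rw [e, Function.update_of_ne hi]; rfl⟩, by rw [e, Function.update_self]⟩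
  have hupB : ∀ x ∈ B, ∃ c : Fin k → F, M.Acts x fun i => up (c i) := fun x hx =>
    exists_up M h.hm.syl (b.BT hx) fun v hv hl => b.cB hx (line_le h b N hk hv hl)
  refine ⟨g, {
    π := fun x => N.e x j
    mul := fun v hv u hu => by rw [N.mul v hv.1 u hu.1]; rfl
    ker := fun v hv => by
      rw [← N.ker v hv.1]
      constructor
      · intro h0
        funext i
        by_cases hi : i = j
        · rw [hi]; exact h0
        · exact hv.2 i hi
      · intro h0; rw [h0]; rfl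
    DN := fun d hd => ⟨hDV hd, fun i _ => by
      have : N.e d = 0 := (N.ker d (hDV hd)).2 hd
      show N.e d i = 0
      rw [this]; rfl⟩
    surj := hsurj
    el := isElementaryAbelian_iff.2 ⟨fun v hv u hu => M.Vcomm hv.1 hu.1, fun v hv => M.Vsq v hv.1⟩
    NB := fun v hv => hVB hv.1
    B2 := h.hm.syl.2.1.to_le b.BT
    zcB := b.zcB
    cB := fun x hx z hz => b.cB hx hz
    wn := b.wn
    sylB := b.sylB
    N1 := ?_
    BY := ?_
    gY := ?_
    nN := ?_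
    cD := fun l hl d hd => (mem_centralizer_iff.1 (mem_inf.1 hl).2 d hd).symm
    acts := ?_
    triv := ?_
    up := fun x hx => by
      obtain ⟨c, hc⟩ := hupB x hx
      exact ⟨c j, fun v hv => hc v hv.1 j⟩
    upc := fun c => by
      obtain ⟨a, ha, hac, -⟩ := hroot c
      refine ⟨a, b.A_le hA hAT ha, fun v hv => ?_⟩
      have h1 := hac v hv.1 j
      rwa [Pi.mulSingle_eq_same] at h1
    gz := ?_
    gm := ?_ }, fun x => rfl⟩
  · -- `N1`
    intro v hv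
    constructor
    · intro h0
      refine line_le h b N hk hv.1 fun i => ?_
      by_cases hi : i = j
      · rw [hi]; exact h0
      · have h1 : N.e v i = 0 := hv.2 i hi
        rw [h1]; rfl
    · intro hz
      have h1 : a₁ * v = v * a₁ := ((b.mem_ZJ v).1 hz).2 A hA a₁ ha₁
      have h2 := haA v hv.1 j
      rw [Pi.mulSingle_eq_same, h1, mul_inv_cancel_right] at h2
      have h3 := congrFun h2 0
      rw [ap_zero'] at h3
      simpa using h3
  · -- `BY`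
    intro x hx
    obtain ⟨c, hc⟩ := hupB x hx
    exact mem_inf.2 ⟨⟨hTH (b.BT hx), _, hc, fun i _ => ⟨c i, rfl⟩⟩,
      mem_centralizer_iff.2 fun d hd => (b.cB hx (hDZ hd)).symm⟩
  · exact mem_inf.2 ⟨⟨hgH, _, hgA, fun i hi => ⟨0, by rw [Pi.mulSingle_eq_of_ne hi, up_zero]⟩⟩,
      mem_centralizer_iff.2 fun d hd => (hgD d hd).symm⟩
  · -- `nN`
    rintro l hl v hv
    obtain ⟨⟨hlH, A', hA', -⟩, -⟩ := mem_inf.1 hl
    refine ⟨M.Vn l hlH v hv.1, fun i hi => ?_⟩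
    rw [hA' v hv.1 i, hv.2 i hi, ap_z]
  · -- `acts`
    rintro l hl
    obtain ⟨⟨-, A', hA', -⟩, -⟩ := mem_inf.1 hl
    exact ⟨A' j, fun v hv => hA' v hv.1 j⟩
  · -- `triv`
    rintro l hl htr v hv
    obtain ⟨⟨hlH, A', hA', -⟩, hlD⟩ := mem_inf.1 hl
    have h1 : A' j = 1 := by
      apply ap_inj
      intro x
      obtain ⟨u, hu, e⟩ := hsurj x
      have h2 := hA' u hu.1 j
      have h3 : N.e (l * u * l⁻¹) j = N.e u j := htr u hu
      rw [ap_one, ← e]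
      exact h2.symm.trans h3
    exact cent_N M h.hm hlH hA' (fun d hd => (mem_centralizer_iff.1 hlD d hd).symm) h1 hv.1 hv.2
  · -- `gz`
    intro z hz
    have hy : w⁻¹ * z * w ∈ Y0 H X AA := by
      have h1 := h.mem_Y0_of (hZX z hz) ((b.mem_ZJ z).1 hz).2
      have h2 := (mem_normalizer_iff.1 (h.norm_Y0 (inv_mem hw)) z).1 h1
      rwa [inv_inv] at h2
    obtain ⟨v, hv, hvy⟩ := h.Y0_comm hA hy
    have h3 := hvy a₁⁻¹ (inv_mem ha₁)
    have e : g⁻¹ * z * g * z⁻¹ = w * (a₁⁻¹ * (w⁻¹ * z * w) * a₁⁻¹⁻¹ * (w⁻¹ * z * w)⁻¹) * w⁻¹ := by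
      rw [hg]; group
    rw [e, h3]
    have haAi := acts_inv (M := M) haH haA
    have hV1 := M.Vn a₁⁻¹ (inv_mem haH) v hv
    have hnV : a₁⁻¹ * v * a₁⁻¹⁻¹ * v⁻¹ ∈ zl T H := mul_mem hV1 (inv_mem hv)
    refine ⟨M.Vn w hw _ hnV, fun i hi => ?_⟩
    have h4 := hwA _ hnV i
    have h5 : N.e (a₁⁻¹ * v * a₁⁻¹⁻¹ * v⁻¹) i = 0 := by
      have h6 : N.e (a₁⁻¹ * v * a₁⁻¹⁻¹ * v⁻¹) = N.e (a₁⁻¹ * v * a₁⁻¹⁻¹) - N.e v := M.map_div hV1 hv
      have h7 : N.e (a₁⁻¹ * v * a₁⁻¹⁻¹) i =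
        ap ((Pi.mulSingle j (up 1) : Fin k → Matrix.SpecialLinearGroup (Fin 2) F)⁻¹ i) (N.e v i) := haAi v hv i
      rw [h6, Pi.sub_apply, h7, Pi.inv_apply, Pi.mulSingle_eq_of_ne hi, inv_one, ap_one, sub_self]
    rw [h5, ap_z] at h4
    exact h4
  · -- `gm`
    obtain ⟨v, hv, e⟩ := hsurj ![1, 0]
    refine ⟨v, hv, by rw [e]; rfl, ?_⟩
    have h1 : N.e (g * v * g⁻¹) j =
      ap ((Pi.mulSingle j (lo (-1)) : Fin k → Matrix.SpecialLinearGroup (Fin 2) F) j) (N.e v j) := hgA v hv.1 j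
    rw [h1, Pi.mulSingle_eq_same, e, ap_one']
    simp

/-- conjugates by `t ∈ T` of elements acting on one summand -/
theorem has_conj (M : NatC F T H (zl T H) (cv T H) k) (hTH : T ≤ H) {K : Subgroup G} (hTK : T ≤ K) {i j : Fin k}
    {c : F} (hc : c ≠ 0) (hj : Has M K (Pi.mulSingle j (lo c))) :
    ∃ A : Matrix.SpecialLinearGroup (Fin 2) F, ent A 1 0 ≠ 0 ∧ Has M K (Pi.mulSingle i A) := by
  classical
  obtain ⟨t, ht, htr⟩ := M.nat.trans j i
  obtain ⟨l, hlK, hlH, hlA, hlD⟩ := hj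
  have htH := hTH ht
  have hti := inv_mem htH
  obtain ⟨B', hB'⟩ := M.nat.norm t htH l hlH _ hlA
  have hxH : t * l * t⁻¹ ∈ H := mul_mem (mul_mem htH hlH) hti
  -- the permutation of `t`
  obtain ⟨σ, hσ⟩ := M.nat.perm t htH
  have hσj : σ j = i := by
    obtain ⟨v, hv, e⟩ := M.nat.surj (Function.update (fun _ => ![1, 0]) j 0)
    have h1 : M.nat.e v j = 0 := by rw [e, Function.update_self]
    have h2 := (htr v hv).2 h1
    by_contra hne
    have h3 : σ (σ.symm i) = i := σ.apply_symm_apply i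
    have h4 : σ.symm i ≠ j := fun h => hne (by rw [← h, h3])
    have h5 := (hσ v hv (σ.symm i)).1 (by rw [h3]; exact h2)
    rw [e, Function.update_of_ne h4] at h5
    have := congrFun h5 0
    simp at this
  -- `n = l v l⁻¹ v⁻¹` lives on `j`
  have hn : ∀ v ∈ zl T H, ∀ i', i' ≠ i → M.nat.e (t * l * t⁻¹ * v * (t * l * t⁻¹)⁻¹) i' = M.nat.e v i' := by
    intro v hv i' hi'
    have hv' : t⁻¹ * v * t ∈ zl T H := by
      have := M.Vn t⁻¹ hti v hv
      rwa [inv_inv] at this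
    have h1 := M.Vn l hlH _ hv'
    have hnV : l * (t⁻¹ * v * t) * l⁻¹ * (t⁻¹ * v * t)⁻¹ ∈ zl T H := mul_mem h1 (inv_mem hv')
    have h3 : σ (σ.symm i') = i' := σ.apply_symm_apply i'
    have h4 : σ.symm i' ≠ j := fun h => hi' (by rw [← h3, h, hσj])
    have h5 : M.nat.e (l * (t⁻¹ * v * t) * l⁻¹ * (t⁻¹ * v * t)⁻¹) (σ.symm i') = 0 := by
      rw [M.map_div h1 hv', Pi.sub_apply, hlA _ hv' (σ.symm i'), Pi.mulSingle_eq_of_ne h4, ap_one, sub_self]
    have h6 := (hσ _ hnV (σ.symm i')).2 h5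
    rw [h3] at h6
    have e : t * (l * (t⁻¹ * v * t) * l⁻¹ * (t⁻¹ * v * t)⁻¹) * t⁻¹ =
      t * l * t⁻¹ * v * (t * l * t⁻¹)⁻¹ * v⁻¹ := by group
    rw [e, M.map_div (M.Vn _ hxH v hv) hv, Pi.sub_apply, sub_eq_zero] at h6
    exact h6
  have hB1 : ∀ i', i' ≠ i → B' i' = 1 := by
    intro i' hi'
    apply ap_inj
    intro x
    obtain ⟨v, hv, e⟩ := M.nat.surj fun _ => x
    have h1 := hB' v hv i'
    rw [hn v hv i' hi'] at h1
    have e' : M.nat.e v i' = x := by rw [e]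
    rw [e'] at h1
    rw [ap_one]
    exact h1.symm
  have hBs : B' = Pi.mulSingle i (B' i) := by
    funext i'
    by_cases hi' : i' = i
    · subst hi'; rw [Pi.mulSingle_eq_same]
    · rw [Pi.mulSingle_eq_of_ne hi', hB1 i' hi']
  refine ⟨B' i, fun h0 => ?_, t * l * t⁻¹, mul_mem (mul_mem (hTK ht) hlK) (inv_mem (hTK ht)), hxH, ?_, ?_⟩
  · -- the line
    obtain ⟨τ, hτ⟩ := M.nat.line t ht
    have hτj : τ j = i := by
      obtain ⟨v, hv, e⟩ := M.nat.surj (Function.update (fun _ => ![0, 1]) j 0)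
      have h1 : M.nat.e v j = 0 := by rw [e, Function.update_self]
      have h2 := (htr v hv).2 h1
      by_contra hne
      have h3 : τ (τ.symm i) = i := τ.apply_symm_apply i
      have h4 : τ.symm i ≠ j := fun h => hne (by rw [← h, h3])
      have h5 := (hτ v hv (τ.symm i)).1 (by rw [h3, h2]; rfl)
      rw [e, Function.update_of_ne h4] at h5
      simp at h5
    obtain ⟨v, hv, e⟩ := M.nat.surj (Function.update 0 j ![1, 0])
    have h1 : M.nat.e (t * v * t⁻¹) i 1 = 0 := by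
      rw [← hτj]
      refine (hτ v hv j).2 ?_
      rw [e, Function.update_self]; rfl
    have h2 : M.nat.e (l * v * l⁻¹) j 1 = c := by
      rw [hlA v hv j, Pi.mulSingle_eq_same, ap_one', e, Function.update_self]
      simp
    have h3 : M.nat.e (t * (l * v * l⁻¹) * t⁻¹) i 1 ≠ 0 := by
      rw [← hτj]
      intro h4
      exact hc (h2.symm.trans ((hτ _ (M.Vn l hlH v hv) j).1 h4))
    apply h3
    have e1 : t * (l * v * l⁻¹) * t⁻¹ = t * l * t⁻¹ * (t * v * t⁻¹) * (t * l * t⁻¹)⁻¹ := by group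
    rw [e1, hB' _ (M.Vn t htH v hv) i, ap_one', h0, h1]
    simp
  · rw [← hBs]
    exact hB'
  · intro d hd
    have h1 := M.Dn t⁻¹ hti d hd
    rw [inv_inv] at h1
    have h2 := hlD _ h1
    have h3 := congrArg (fun x => t * x * t⁻¹) h2
    simpa [mul_assoc] using h3

/-- `H = ⟨T, L⟩` -/
theorem le_sup (h : GE T H X AA) (N : NatKM F T H (zl T H) (cv T H) k) (hk : 0 < k)
    {L : Subgroup G} {j : Fin k}
    (hL : L ≤ Xn (natC_of h.hm hk N.toNatK) j ⊓ centralizer (cv T H : Set G))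
    (hcov : ∀ A : Matrix.SpecialLinearGroup (Fin 2) F, ∃ l ∈ L, ∀ v ∈ Wn (natC_of h.hm hk N.toNatK) j,
      N.e (l * v * l⁻¹) j = ap A (N.e v j)) : H ≤ T ⊔ L := by
  classical
  set M := natC_of h.hm hk N.toNatK with hM
  have hTH := h.TH
  have hLH : L ≤ H := fun l hl => (mem_inf.1 (hL hl)).1.1
  have hunip : ∀ c : Fin k → F, Has M (T ⊔ L) fun i => up (c i) := by
    intro c
    obtain ⟨t, ht, hc⟩ := N.unip c
    exact ⟨t, mem_sup_left ht, hTH ht, hc⟩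
  have hup1 : ∀ (i : Fin k) (c : F), Has M (T ⊔ L) (Pi.mulSingle i (up c)) := by
    intro i c
    have := hunip (Pi.single i c)
    rwa [NO3S.OneLine.single_acts] at this
  -- the `j`-th factor
  have hjj : ∀ A : Matrix.SpecialLinearGroup (Fin 2) F, Has M (T ⊔ L) (Pi.mulSingle j A) := by
    intro A₀
    obtain ⟨l, hl, hlA⟩ := hcov A₀
    obtain ⟨⟨hlH, A', hA', hA''⟩, hlD⟩ := mem_inf.1 (hL hl)
    have h1 : A' j = A₀ := by
      apply ap_inj
      intro x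
      obtain ⟨v, hv, e⟩ := N.surj (Function.update 0 j x)
      have hvW : v ∈ Wn M j := ⟨hv, fun i hi => by
        show N.e v i = 0
        rw [e, Function.update_of_ne hi]; rfl⟩
      have h2 := hA' v hv j
      have h3 := hlA v hvW
      have e' : N.e v j = x := by rw [e, Function.update_self]
      rw [e'] at h3
      have e'' : M.nat.e v j = x := e'
      rw [e''] at h2
      exact h2.symm.trans h3
    have hch : ∃ c : Fin k → F, ∀ i, i ≠ j → A' i = up (c i) := by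
      have h4 : ∀ i, ∃ c, i ≠ j → A' i = up c := fun i => by
        by_cases hi : i = j
        · exact ⟨0, fun h => absurd hi h⟩
        · obtain ⟨c, hc⟩ := hA'' i hi
          exact ⟨c, fun _ => hc⟩
      choose c hc using h4
      exact ⟨c, hc⟩
    obtain ⟨c, hc⟩ := hch
    have h5 : Has M (T ⊔ L) A' :=
      ⟨l, mem_sup_right hl, hlH, hA', fun d hd => (mem_centralizer_iff.1 hlD d hd).symm⟩
    have h6 := Has.mul M h5 (Has.inv M (hunip fun i => if i = j then 0 else c i))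
    convert h6 using 1
    funext i
    by_cases hi : i = j
    · subst hi
      simp [Pi.mul_apply, Pi.inv_apply, h1, up_zero]
    · rw [Pi.mulSingle_eq_of_ne hi, Pi.mul_apply, Pi.inv_apply, hc i hi, if_neg hi, mul_inv_cancel]
  have hall : ∀ i (A : Matrix.SpecialLinearGroup (Fin 2) F), Has M (T ⊔ L) (Pi.mulSingle i A) := by
    intro i
    obtain ⟨A₀, hA₀, hh⟩ := has_conj M hTH (K := T ⊔ L) le_sup_left (i := i) one_ne_zero (hjj (lo 1))
    refine sl2_all (fun A => Has M (T ⊔ L) (Pi.mulSingle i A)) (fun A B hA hB => ?_) (fun A hA => ?_) (hup1 i) hh hA₀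
    · rw [Pi.mulSingle_mul]
      exact Has.mul M hA hB
    · rw [Pi.mulSingle_inv]
      exact Has.inv M hA
  have hgen : H ≤ (T ⊔ L) ⊔ M.stab := by
    refine N.gen _ (le_sup_left.trans le_sup_left) fun x hx A hA => ?_
    obtain ⟨l, hlK, hlH, hlA, hlD⟩ := has_all M hall A
    have h1 : l⁻¹ * x ∈ M.stab := by
      refine ⟨mul_mem (inv_mem hlH) hx, ?_, fun d hd => ?_⟩
      · have h2 := acts_mul (M := M) hx (acts_inv (M := M) hlH hlA) hA.1
        rwa [inv_mul_cancel] at h2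
      · have e1 : Commute l d := hlD d hd
        have e2 : Commute x d := hA.2 d hd
        exact (e1.inv_left.mul_left e2).eq
    have e : x = l * (l⁻¹ * x) := by group
    rw [e]
    exact mul_mem (mem_sup_left hlK) (mem_sup_right h1)
  obtain ⟨M₀, hM₀, huniq⟩ := h.hm.uniq
  by_contra hcon
  apply hM₀
  have h1 : T ⊔ L ≤ M₀ := huniq _ le_sup_left (sup_le hTH hLH) fun e => hcon e.ge
  have h2 : M.stab ⊔ T ≤ M₀ := huniq _ le_sup_right (sup_le (fun x hx => hx.1) hTH) (M.stab_sup_ne h.hm.syl)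
  exact hgen.trans (sup_le h1 (le_sup_left.trans h2))

/-- **Natural blocks.** -/
theorem exists_pb (h : GE T H X AA) (b : BZ T X AA B ZJ) (N : NatKM F T H (zl T H) (cv T H) k) (hk : 0 < k)
    (hex : ∃ A ∈ AA, ¬ A ≤ o2 H) :
    ∃ L N' N₁ D', B ≤ L ∧ L ≤ H ∧ PB B L N' N₁ D' (Nat.card F) ∧ H ≤ T ⊔ L := by
  obtain ⟨A, hA, hAQ⟩ := hex
  obtain ⟨j, hroot⟩ := exists_root h N hk hA hAQ
  obtain ⟨g, M', hM'⟩ := exists_nxi h b N hk hA hroot
  obtain ⟨L, h1, h2, h3, h4⟩ := M'.exists_pb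
  refine ⟨L, _, _, _, h1, h2.trans fun l hl => (mem_inf.1 hl).1.1, h3, le_sup h N hk h2 fun A₀ => ?_⟩
  obtain ⟨l, hl, hlA⟩ := h4 A₀
  refine ⟨l, hl, fun v hv => ?_⟩
  rw [← hM', ← hM']
  exact hlA v hv

end main

end Cfsg.Agent.Omega.OM.GNat

end

section


/-!
# THEOREM SW at the levels `n ≥ 0`, STEP 0: the ground frame

* `Ln S P n L W Z C A q` : `HypN S P`, `lev S n ≤ O₂(P)` and the frame `FrL` over `B = C_S(Z_J)`,
  `Z_J = Ω₁Z(lev S (n+1))`, `X = Ω₁Z(lev S n)`, with at least two blocks;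
* `perm` (`q = 2`) : `N_G(B)` permutes the triples `(W i, Z i, Z_J ∩ C i)`; supports of the elements of `Z_J`.
-/

set_option autoImplicit false

namespace Cfsg.Agent.Omega.OM.SwapL

open Subgroup Cfsg Cfsg.Agent.ZN.ChoiceBase Cfsg.Agent.ZN.ChoiceSit
open Cfsg.Agent.ZN (jj zj bau zc zl o2)
open Cfsg.Agent.Omega.NO3S (HypN)
open Cfsg.Agent.Omega.NO3S.Level (lev Lev lev_isLev)
open Cfsg.Agent.Omega.OM.LevD (LB)
open Cfsg.Agent.Omega.OM.Lev.Uni (FrL)
open Cfsg.Agent.Omega.OM.UniPlus (NB)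
open Cfsg.Agent.Omega.OM.WeakCl (WC)

universe u

variable {G : Type u} [Group G] [Finite G]

/-- `Z_J = Ω₁Z(lev S (n+1))` -/
noncomputable def ZL (S : Subgroup G) (n : ℕ) : Subgroup G := zc (lev S (n + 1))

/-- `B = C_S(Z_J)` -/
noncomputable def BL (S : Subgroup G) (n : ℕ) : Subgroup G := S ⊓ centralizer (zc (lev S (n + 1)) : Set G)

/-- The ground frame at stage `n`. -/
structure Ln {ι : Type} (S : Sylow 2 G) (P : Subgroup G) (n : ℕ) (L W Z C A : ι → Subgroup G) (q : ℕ) : Prop where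
  hyp : HypN S P
  le : lev (S : Subgroup G) n ≤ o2 P
  fr : FrL (BL (S : Subgroup G) n) (o2 P) (zl (S : Subgroup G) P) (zc (lev (S : Subgroup G) n))
    (ZL (S : Subgroup G) n) L W Z C A q
  two : ∀ i : ι, ∃ j, j ≠ i

theorem lb (S : Sylow 2 G) (n : ℕ) : LB S (lev (S : Subgroup G) (n + 1)) (BL (S : Subgroup G) n)
    (ZL (S : Subgroup G) n) := LevD.LB.lev S (n + 1)

theorem wc (S : Sylow 2 G) (n : ℕ) : WC (BL (S : Subgroup G) n) := LevD.wc_lev S (n + 1)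

theorem cj_mul_eq {g h : G} {X Y U : Subgroup G} (h1 : cj h X = Y) (h2 : cj g Y = U) : cj (g * h) X = U := by
  rw [← cj_cj, h1, h2]

theorem cj_inv_eq {g : G} {X Y : Subgroup G} (h1 : cj g X = Y) : cj g⁻¹ Y = X := by
  rw [← h1, cj_inv_cj]

/-- `N_G(B) ≤ N_G(lev S m)`, `m ≤ n + 1`. -/
theorem norm_lev (S : Sylow 2 G) {n m : ℕ} (hm : m ≤ n + 1) :
    normalizer (BL (S : Subgroup G) n : Set G) ≤ normalizer (lev (S : Subgroup G) m : Set G) :=
  Lev.Wc.norm_lev S hm rfl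

section line

variable {ι : Type} {S : Sylow 2 G} {P : Subgroup G} {n : ℕ} {L W Z C A : ι → Subgroup G} {q : ℕ}

omit [Finite G] in
theorem nb {B Q V X ZJ : Subgroup G} (h : FrL B Q V X ZJ L W Z C A q) (i : ι) : NB B (L i) (W i) (Z i) q :=
  ⟨h.blk i, h.cardZ i⟩

theorem mem_C_iff {B Q V X ZJ : Subgroup G} (h : FrL B Q V X ZJ L W Z C A q) {i : ι} {z : G} (hz : z ∈ ZJ) :
    z ∈ C i ↔ ∀ l ∈ L i, l * z = z * l := by
  constructor
  · exact fun hc l hl => h.LC i l hl z hz hc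
  · intro hL
    obtain ⟨w, hw, c, hc, hcJ, e⟩ := h.split_ZJ i hz
    have h1 : w = 1 := by
      refine (nb h i).cent hw fun l hl => ?_
      have h2 := hL l hl
      have h3 := h.LC i l hl c hcJ hc
      have e1 : w = z * c⁻¹ := by rw [e]; group
      have c1 : Commute l z := h2
      have c2 : Commute l c := h3
      rw [e1]
      exact (c1.mul_right c2.inv_right).eq
    rw [e, h1, one_mul]
    exact hc

variable [Finite ι]

/-- **(U1)** -/
theorem Ln.norm (h : Ln S P n L W Z C A q) {g : G} (hg : g ∈ normalizer (BL (S : Subgroup G) n : Set G)) :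
    cj g (zl (S : Subgroup G) P) = zl (S : Subgroup G) P ∧
      ∀ i, ∃ j, cj g (Z i) = Z j ∧ cj g (W i) ≤ W j ⊔ ZL (S : Subgroup G) n :=
  h.fr.norm_of hg (NO3S.Level.normalizer_le_zc _ (norm_lev S (by omega) hg))

theorem Ln.norm_le (h : Ln S P n L W Z C A q) :
    normalizer (BL (S : Subgroup G) n : Set G) ≤ normalizer (zl (S : Subgroup G) P : Set G) := fun g hg => by
  rw [mem_normalizer_iff_cj]
  exact (h.norm hg).1

/-- `N_G(B)` permutes the triples `(W i, Z i, Z_J ∩ C i)`. -/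
theorem perm (h : Ln S P n L W Z C A 2) {g : G} (hg : g ∈ normalizer (BL (S : Subgroup G) n : Set G)) (i : ι) :
    ∃ j, cj g (Z i) = Z j ∧ cj g (W i) = W j ∧
      ∀ z ∈ ZL (S : Subgroup G) n, (g * z * g⁻¹ ∈ C j ↔ z ∈ C i) := by
  have hN := (nb h.fr i).conj g
  rw [cj_eq_of_mem_normalizer hg] at hN
  obtain ⟨j, hZ, hW⟩ := (h.norm hg).2 i
  rw [hZ] at hN
  rw [← h.fr.zcB] at hW
  have hB2 : IsPGroup 2 (BL (S : Subgroup G) n) := (lb S n).Bp
  obtain ⟨h1, h2, -⟩ := UniPlus.uni_two (wc S n) hB2 (nb h.fr j) hN hW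
  obtain ⟨-, h3, -⟩ := UniPlus.uni_two (wc S n) hB2 hN (nb h.fr j) (h1.ge.trans le_sup_left)
  refine ⟨j, hZ, h1, fun z hz => ?_⟩
  have hz' : g * z * g⁻¹ ∈ ZL (S : Subgroup G) n := by
    have h4 := cj_eq_of_mem_normalizer ((lb S n).norm_B_le hg)
    rw [← h4]
    exact ⟨z, hz, rfl⟩
  have hzc : g * z * g⁻¹ ∈ zc (BL (S : Subgroup G) n) := by rw [h.fr.zcB]; exact hz'
  rw [mem_C_iff h.fr hz', mem_C_iff h.fr hz]
  constructor
  · intro h4 l hl
    have h5 := h2 _ hzc h4 (g * l * g⁻¹) ⟨l, hl, rfl⟩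
    have h6 := congrArg (fun t => g⁻¹ * t * g) h5
    simpa [mul_assoc] using h6
  · intro h4
    refine h3 _ hzc fun l hl => ?_
    have h5 := h4 _ (mem_cj.1 hl)
    have h6 := congrArg (fun t => g * t * g⁻¹) h5
    simpa [mul_assoc] using h6

omit [Finite ι] in
theorem Z_ne (h : Ln S P n L W Z C A 2) (i : ι) : ∃ z ∈ Z i, z ≠ 1 := by
  have h1 : 1 < Nat.card (Z i) := by rw [h.fr.cardZ i]; norm_num
  have : Nontrivial (Z i) := Finite.one_lt_card_iff_nontrivial.1 h1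
  obtain ⟨z, hz⟩ := exists_ne (1 : Z i)
  exact ⟨z, z.2, fun h => hz (Subtype.ext h)⟩

omit [Finite ι] in
theorem Z_W (h : Ln S P n L W Z C A 2) (i : ι) : Z i ≤ W i := (h.fr.blk i).ZV

omit [Finite ι] in
theorem not_mem_C (h : Ln S P n L W Z C A 2) {i : ι} {z : G} (hz : z ∈ Z i) (h1 : z ≠ 1) : z ∉ C i := by
  intro hc
  have h2 : z ∈ W i ⊓ C i := mem_inf.2 ⟨Z_W h i hz, hc⟩
  rw [h.fr.dir i, mem_bot] at h2
  exact h1 h2

omit [Finite ι] in
theorem Z_C (h : Ln S P n L W Z C A 2) {i j : ι} (hij : i ≠ j) : Z j ≤ C i := (Z_W h j).trans (h.fr.WjC i j hij)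

omit [Finite ι] in
/-- `Z` is injective. -/
theorem Z_inj (h : Ln S P n L W Z C A 2) {i j : ι} (e : Z i = Z j) : i = j := by
  by_contra hne
  obtain ⟨z, hz, hz1⟩ := Z_ne h i
  exact not_mem_C h hz hz1 (Z_C h hne (e ▸ hz))

omit [Finite ι] in
theorem Z_eq (h : Ln S P n L W Z C A 2) {i : ι} {x y : G} (hx : x ∈ Z i) (hy : y ∈ Z i) (hx1 : x ≠ 1)
    (hy1 : y ≠ 1) : x = y := UniPlus.eq_of_card_two (h.fr.cardZ i) hx hy hx1 hy1

omit [Finite ι] in
/-- If `g` normalises `Z i` it centralises it. -/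
theorem cent_of_cj (h : Ln S P n L W Z C A 2) {i : ι} {g : G} (e : cj g (Z i) = Z i) {z : G} (hz : z ∈ Z i) :
    g * z = z * g := by
  by_cases h1 : z = 1
  · rw [h1]; simp
  have h2 : g * z * g⁻¹ ∈ Z i := by rw [← e]; exact ⟨z, hz, rfl⟩
  have h3 := Z_eq h h2 hz (fun h3 => h1 (by simpa using h3)) h1
  exact mul_inv_eq_iff_eq_mul.1 h3

omit [Finite ι] in
/-- If `g` moves `Z i` to `Z j` it moves the generator to the generator. -/
theorem conj_gen (h : Ln S P n L W Z C A 2) {i j : ι} {g : G} (e : cj g (Z i) = Z j) {z w : G} (hz : z ∈ Z i)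
    (h1 : z ≠ 1) (hw : w ∈ Z j) (h2 : w ≠ 1) : g * z * g⁻¹ = w :=
  Z_eq h (by rw [← e]; exact ⟨z, hz, rfl⟩) hw (fun h3 => h1 (by simpa using h3)) h2

omit [Finite ι] in
/-- An element of `Z_J` is determined by its support. -/
theorem eq_of_supp (h : Ln S P n L W Z C A 2) {x y : G} (hx : x ∈ ZL (S : Subgroup G) n)
    (hy : y ∈ ZL (S : Subgroup G) n) (hs : ∀ i, x ∈ C i ↔ y ∈ C i) : x = y := by
  have hxV := h.fr.ZJV hx
  have hyV := h.fr.ZJV hy
  have h1 : x * y⁻¹ = 1 := by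
    refine h.fr.C0 _ (mul_mem hxV (inv_mem hyV)) fun i => ?_
    by_cases hxi : x ∈ C i
    · exact mul_mem hxi (inv_mem ((hs i).1 hxi))
    have hyi : y ∉ C i := fun hc => hxi ((hs i).2 hc)
    obtain ⟨w, hw, c, hc, -, e⟩ := h.fr.split_ZJ i hx
    obtain ⟨w', hw', c', hc', -, e'⟩ := h.fr.split_ZJ i hy
    have hw1 : w ≠ 1 := by
      rintro rfl
      exact hxi (by rw [e, one_mul]; exact hc)
    have hw1' : w' ≠ 1 := by
      rintro rfl
      exact hyi (by rw [e', one_mul]; exact hc')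
    have h2 := Z_eq h hw hw' hw1 hw1'
    have h3 : w * c = c * w := h.fr.Vc (h.fr.ZV i hw) (h.fr.CV i hc)
    have h4 : w * c' = c' * w := h.fr.Vc (h.fr.ZV i hw) (h.fr.CV i hc')
    have e1 : x * y⁻¹ = c * c'⁻¹ := by
      rw [e, e', ← h2, h3, h4]; group
    rw [e1]
    exact mul_mem hc (inv_mem hc')
  exact mul_inv_eq_one.1 h1

/-- Every subset of the index set is a support. -/
theorem exists_supp (h : Ln S P n L W Z C A 2) (s : Set ι) :
    ∃ x ∈ ZL (S : Subgroup G) n, ∀ i, (x ∈ C i ↔ i ∉ s) := by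
  classical
  have : Fintype ι := Fintype.ofFinite ι
  suffices H : ∀ t : Finset ι, ∃ x ∈ ZL (S : Subgroup G) n, ∀ i, (x ∈ C i ↔ i ∉ t) by
    obtain ⟨x, hx, hs⟩ := H s.toFinset
    exact ⟨x, hx, fun i => by rw [hs i, Set.mem_toFinset]⟩
  intro t
  induction t using Finset.induction_on with
  | empty => exact ⟨1, one_mem _, fun i => by simp [one_mem]⟩
  | insert j t hj ih =>
    obtain ⟨x, hx, hs⟩ := ih
    obtain ⟨z, hz, hz1⟩ := Z_ne h j
    refine ⟨x * z, mul_mem hx (h.fr.Z_le j hz), fun i => ?_⟩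
    by_cases hij : i = j
    · subst hij
      have h1 : x ∈ C i := (hs i).2 hj
      constructor
      · intro h2
        exact absurd ((Subgroup.mul_mem_cancel_left _ h1).1 h2) (not_mem_C h hz hz1)
      · intro h2
        exact absurd (Finset.mem_insert_self i t) h2
    · have h1 : z ∈ C i := Z_C h hij hz
      rw [Subgroup.mul_mem_cancel_right _ h1, hs i, Finset.mem_insert, not_or]
      exact ⟨fun h2 => ⟨hij, h2⟩, fun h2 => h2.2⟩

/-- The support of a conjugate under `N_G(B)`. -/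
theorem supp_cj (h : Ln S P n L W Z C A 2) {g : G} (hg : g ∈ normalizer (BL (S : Subgroup G) n : Set G)) {i j : ι}
    (e : cj g (Z i) = Z j) {z : G} (hz : z ∈ ZL (S : Subgroup G) n) : g * z * g⁻¹ ∈ C j ↔ z ∈ C i := by
  obtain ⟨k, h1, -, h2⟩ := perm h hg i
  have h3 : j = k := Z_inj h (e.symm.trans h1)
  rw [h3]
  exact h2 z hz

theorem W_cj (h : Ln S P n L W Z C A 2) {g : G} (hg : g ∈ normalizer (BL (S : Subgroup G) n : Set G)) {i j : ι}
    (e : cj g (Z i) = Z j) : cj g (W i) = W j := by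
  obtain ⟨k, h1, h2, -⟩ := perm h hg i
  have h3 : j = k := Z_inj h (e.symm.trans h1)
  rw [h3]
  exact h2

omit [Finite ι] in
theorem ZL_cj_mem {g : G} (hg : g ∈ normalizer (BL (S : Subgroup G) n : Set G)) {z : G}
    (hz : z ∈ ZL (S : Subgroup G) n) : g * z * g⁻¹ ∈ ZL (S : Subgroup G) n := by
  have h3 := cj_eq_of_mem_normalizer ((lb S n).norm_B_le hg)
  rw [← h3]
  exact ⟨z, hz, rfl⟩

/-- `g ∈ N_G(B)` centralises `z ∈ Z_J` if it stabilises its support. -/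
theorem comm_of_supp (h : Ln S P n L W Z C A 2) {g : G} (hg : g ∈ normalizer (BL (S : Subgroup G) n : Set G)) {z : G}
    (hz : z ∈ ZL (S : Subgroup G) n) (hs : ∀ i j, cj g (Z i) = Z j → (z ∈ C i ↔ z ∈ C j)) : g * z = z * g := by
  have h1 : g * z * g⁻¹ = z := by
    refine eq_of_supp h (ZL_cj_mem hg hz) hz fun j => ?_
    obtain ⟨i, hi, -, -⟩ := perm h (inv_mem hg) j
    have e : cj g (Z i) = Z j := by
      have := cj_inv_eq hi
      rwa [inv_inv] at this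
    rw [supp_cj h hg e hz]
    exact hs i j e
  exact mul_inv_eq_iff_eq_mul.1 h1

end line

end Cfsg.Agent.Omega.OM.SwapL

end

section


/-!
# THEOREM SWQ (#21705), CASE I: module facts over the frame `FrL`, any `q`

* `comm_L`, `comm_W`, `nWr` : `L i` on `V`, `W j`, `⟨W j : j ∈ r⟩`;
* `root`, `rootV`, `step`, `trW` : `A i` is a full root group; `L i` fuses `W i` into `Z i`;
* `conj_ZJ` : every element of `∏_{i ∈ r} W i` is conjugate under `⟨L i : i ∈ r⟩` to an element of `∏_{i ∈ r} Z i`.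
(The texts of helper590, helper323, `SwapL/Mod.lean`, `q = 2`.)
-/

set_option autoImplicit false
set_option linter.unusedSectionVars false

namespace Cfsg.Agent.Omega.OM.SWQ.ModQ

open Subgroup Cfsg Cfsg.Agent.PLocal.ThompsonJ Cfsg.Agent.ZN Cfsg.Agent.ZN.ChoiceBase
open Cfsg.Agent.PLocal.ElemAbSup
open Cfsg.Agent.Omega.SQ1.Bau (mem_sup_comm card_sup_comm elem_comm elem_sq)
open Cfsg.Agent.Omega.OM.BlockUniq
open Cfsg.Agent.Omega.OM.Uni
open Cfsg.Agent.Omega.OM.Lev.Uni (FrL Best fullX)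
open scoped Pointwise commutatorElement

universe u

variable {G : Type u} [Group G]

section fr

variable {ι : Type*} {B Q V X ZJ : Subgroup G} {L W Z C A : ι → Subgroup G} {q : ℕ}
  (h : FrL B Q V X ZJ L W Z C A q)
include h

theorem Z_inf {i j : ι} (hij : i ≠ j) {x : G} (hi : x ∈ Z i) (hj : x ∈ Z j) : x = 1 := by
  have h1 : x ∈ W i ⊓ C i := mem_inf.2 ⟨(h.blk i).ZV hi, h.WjC i j hij ((h.blk j).ZV hj)⟩
  rwa [h.dir i, mem_bot] at h1

/-- `[V, B] ≤ ZJ` -/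
theorem comm_B [Finite ι] {b v : G} (hb : b ∈ B) (hv : v ∈ V) : b * v * b⁻¹ * v⁻¹ ∈ ZJ := by
  -- the elements of `V` with this property
  let T : Subgroup G :=
    { carrier := {v | v ∈ V ∧ b * v * b⁻¹ * v⁻¹ ∈ ZJ}
      one_mem' := ⟨one_mem _, by simp⟩
      mul_mem' := by
        rintro x y ⟨hx, hx'⟩ ⟨hy, hy'⟩
        refine ⟨mul_mem hx hy, ?_⟩
        have h1 := h.Vc hx (h.ZJV hy')
        have e : b * (x * y) * b⁻¹ * (x * y)⁻¹ = b * x * b⁻¹ * (b * y * b⁻¹ * y⁻¹) * x⁻¹ := by group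
        have e2 : b * x * b⁻¹ * (b * y * b⁻¹ * y⁻¹) * x⁻¹ = (b * x * b⁻¹ * x⁻¹) * (b * y * b⁻¹ * y⁻¹) := by
          calc b * x * b⁻¹ * (b * y * b⁻¹ * y⁻¹) * x⁻¹ =
                b * x * b⁻¹ * x⁻¹ * (x * (b * y * b⁻¹ * y⁻¹)) * x⁻¹ := by group
            _ = b * x * b⁻¹ * x⁻¹ * (b * y * b⁻¹ * y⁻¹) := by rw [h1]; group
        rw [e, e2]
        exact mul_mem hx' hy'
      inv_mem' := by
        rintro x ⟨hx, hx'⟩
        refine ⟨inv_mem hx, ?_⟩
        have h1 := h.Vc hx (h.ZJV hx')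
        have e2 : b * x⁻¹ * b⁻¹ * x⁻¹⁻¹ = (b * x * b⁻¹ * x⁻¹)⁻¹ := by
          have e3 : b * x⁻¹ * b⁻¹ * x⁻¹⁻¹ = x⁻¹ * (b * x * b⁻¹ * x⁻¹)⁻¹ * x := by group
          have h2 := h.Vc (inv_mem (h.ZJV hx')) hx
          rw [e3, mul_assoc, h2]; group
        rw [e2]
        exact inv_mem hx' }
  have hT : V ≤ T := by
    conv_lhs => rw [h.V_eq]
    refine iSup_le fun i w hw => ⟨h.WV i hw, h.Z_le i ((h.blk i).com b hb w hw)⟩
  exact (hT hv).2

/-- `L i` normalises `W i * ZJ` -/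
theorem nE {i : ι} {l : G} (hl : l ∈ L i) {e : G} (he : e ∈ W i ⊔ ZJ) : l * e * l⁻¹ ∈ W i ⊔ ZJ := by
  obtain ⟨v, hv, z, hz, rfl⟩ := mem_sup_comm (fun v hv z hz => h.Vc (h.WV i hv) (h.ZJV hz)) he
  have hz' : z ∈ zc B := by rw [h.zcB]; exact hz
  have e1 : l * (v * z) * l⁻¹ = (l * v * l⁻¹) * (l * z * l⁻¹ * z⁻¹) * z := by group
  rw [e1]
  exact mul_mem (mem_sup_left (mul_mem ((h.blk i).nV l hl v hv) ((h.blk i).act l hl z hz'))) (mem_sup_right hz)

/-- a subgroup `N` of `V` normalised by `L i` with `[U, B ^ x] ≤ N`, `x ∈ L i`: `[U, L i] ≤ N` -/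
theorem comm_gen {i : ι} {N U : Subgroup G} (hN : ∀ l ∈ L i, ∀ n ∈ N, l * n * l⁻¹ ∈ N)
    (hB : ∀ x ∈ L i, ∀ b ∈ cj x B, ∀ u ∈ U, b * u * b⁻¹ * u⁻¹ ∈ N) {l : G} (hl : l ∈ L i) {u : G} (hu : u ∈ U) :
    l * u * l⁻¹ * u⁻¹ ∈ N := by
  let T : Subgroup G :=
    { carrier := {l | l ∈ L i ∧ ∀ u ∈ U, l * u * l⁻¹ * u⁻¹ ∈ N}
      one_mem' := ⟨one_mem _, fun u _ => by simp⟩
      mul_mem' := by
        rintro x y ⟨hx, hx'⟩ ⟨hy, hy'⟩
        refine ⟨mul_mem hx hy, fun u hu => ?_⟩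
        have e : x * y * u * (x * y)⁻¹ * u⁻¹ = (x * (y * u * y⁻¹ * u⁻¹) * x⁻¹) * (x * u * x⁻¹ * u⁻¹) := by group
        rw [e]
        exact mul_mem (hN x hx _ (hy' u hu)) (hx' u hu)
      inv_mem' := by
        rintro x ⟨hx, hx'⟩
        refine ⟨inv_mem hx, fun u hu => ?_⟩
        have e : x⁻¹ * u * x⁻¹⁻¹ * u⁻¹ = x⁻¹ * (x * u * x⁻¹ * u⁻¹)⁻¹ * x⁻¹⁻¹ := by group
        rw [e]
        exact hN x⁻¹ (inv_mem hx) _ (inv_mem (hx' u hu)) }
  have hT : L i ≤ T := by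
    refine (h.blk i).gen.trans (iSup_le fun x b hb => ⟨?_, hB x x.2 b hb⟩)
    obtain ⟨b', hb', rfl⟩ := hb
    exact mul_mem (mul_mem x.2 ((h.blk i).BL hb')) (inv_mem x.2)
  exact (hT hl).2 u hu

/-- `[V, L i] ≤ W i * ZJ` -/
theorem comm_L [Finite ι] {i : ι} {l v : G} (hl : l ∈ L i) (hv : v ∈ V) : l * v * l⁻¹ * v⁻¹ ∈ W i ⊔ ZJ := by
  refine comm_gen h (fun l hl n hn => nE h hl hn) (fun x hx b hb u hu => ?_) hl hv
  rw [mem_cj] at hb
  have h1 := h.LV i x⁻¹ (inv_mem hx) u hu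
  rw [inv_inv] at h1
  have h2 := nE h hx (mem_sup_right (comm_B h hb h1))
  have e : x * ((x⁻¹ * b * x) * (x⁻¹ * u * x) * (x⁻¹ * b * x)⁻¹ * (x⁻¹ * u * x)⁻¹) * x⁻¹ = b * u * b⁻¹ * u⁻¹ := by
    group
  rwa [e] at h2

/-- `[W j, L i] ≤ W i * Z j`, `i ≠ j` -/
theorem comm_W [Finite ι] {i j : ι} (hij : i ≠ j) {l w : G} (hl : l ∈ L i) (hw : w ∈ W j) :
    l * w * l⁻¹ * w⁻¹ ∈ W i ⊔ Z j := by
  have hzc : ∀ l ∈ L i, ∀ z ∈ Z j, l * z = z * l := fun l hl z hz =>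
    h.LC i l hl z (h.Z_le j hz) (h.WjC i j hij ((h.blk j).ZV hz))
  have hN : ∀ l ∈ L i, ∀ n ∈ W i ⊔ Z j, l * n * l⁻¹ ∈ W i ⊔ Z j := by
    intro l hl n hn
    obtain ⟨v, hv, z, hz, rfl⟩ := mem_sup_comm (fun v hv z hz => h.Vc (h.WV i hv) (h.ZV j hz)) hn
    have e1 : l * (v * z) * l⁻¹ = (l * v * l⁻¹) * (l * z * l⁻¹) := by group
    rw [e1, hzc l hl z hz, mul_inv_cancel_right]
    exact mul_mem (mem_sup_left ((h.blk i).nV l hl v hv)) (mem_sup_right hz)
  refine comm_gen h hN (fun x hx b hb u hu => ?_) hl hw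
  rw [mem_cj] at hb
  -- `x⁻¹ u x = u y`, `y ∈ W i * ZJ`
  have h1 := comm_L h (inv_mem hx) (h.WV j hu)
  rw [inv_inv] at h1
  obtain ⟨y, hy, t, ht, e⟩ := mem_sup_comm (fun v hv z hz => h.Vc (h.WV i hv) (h.ZJV hz)) h1
  have e0 : x⁻¹ * u * x = y * t * u := by
    rw [← e]; group
  obtain ⟨c, hc⟩ : ∃ c, c = x⁻¹ * b * x := ⟨_, rfl⟩
  rw [← hc] at hb
  have h2 := (h.blk i).com c hb y hy
  have h3 := (h.blk j).com c hb u hu
  have h4 := ((h.mem_ZJ t).1 ht).2 c hb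
  have hy' := h.WV i hy
  have ht' := h.ZJV ht
  have hu' := h.WV j hu
  have e2 : c * (x⁻¹ * u * x) * c⁻¹ * (x⁻¹ * u * x)⁻¹ = (c * y * c⁻¹ * y⁻¹) * (c * u * c⁻¹ * u⁻¹) := by
    rw [e0]
    have k1 : y * (t * (c * u * c⁻¹ * u⁻¹) * t⁻¹) = (c * u * c⁻¹ * u⁻¹) * y := by
      have k2 := h.Vc ht' (h.ZV j h3)
      have k3 := h.Vc hy' (h.ZV j h3)
      rw [k2, mul_inv_cancel_right, k3]
    calc c * (y * t * u) * c⁻¹ * (y * t * u)⁻¹
        = (c * y * c⁻¹) * (c * t) * c⁻¹ * (c * u * c⁻¹ * u⁻¹) * t⁻¹ * y⁻¹ := by group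
      _ = (c * y * c⁻¹ * y⁻¹) * (y * (t * (c * u * c⁻¹ * u⁻¹) * t⁻¹)) * y⁻¹ := by rw [h4]; group
      _ = _ := by rw [k1]; group
  have h5 := hN x hx _ (mul_mem (mem_sup_left ((h.blk i).ZV h2)) (mem_sup_right h3))
  rw [← e2, hc] at h5
  have e3 : x * ((x⁻¹ * b * x) * (x⁻¹ * u * x) * (x⁻¹ * b * x)⁻¹ * (x⁻¹ * u * x)⁻¹) * x⁻¹ = b * u * b⁻¹ * u⁻¹ := by
    group
  rwa [e3] at h5

/-- `⟨W j : j ∈ r⟩` is invariant under `L i`, `i ∈ r` -/
theorem nWr [Finite ι] {r : Set ι} {i : ι} (hi : i ∈ r) {l : G} (hl : l ∈ L i) {x : G} (hx : x ∈ ⨆ j ∈ r, W j) :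
    l * x * l⁻¹ ∈ ⨆ j ∈ r, W j := by
  have h1 : (⨆ j ∈ r, W j) ≤ (⨆ j ∈ r, W j).comap (MulAut.conj l).toMonoidHom := by
    refine iSup₂_le fun j hj w hw => ?_
    show l * w * l⁻¹ ∈ ⨆ j ∈ r, W j
    have hWj : W j ≤ ⨆ j ∈ r, W j := le_iSup₂_of_le j hj le_rfl
    have hWi : W i ≤ ⨆ j ∈ r, W j := le_iSup₂_of_le i hi le_rfl
    by_cases hij : i = j
    · subst hij
      exact hWi ((h.blk i).nV l hl w hw)
    · have h2 := comm_W h hij hl hw
      have h3 : l * w * l⁻¹ * w⁻¹ ∈ ⨆ j ∈ r, W j := (sup_le hWi ((h.blk j).ZV.trans hWj)) h2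
      have h4 := mul_mem h3 (hWj hw)
      rwa [inv_mul_cancel_right] at h4
  exact h1 hx

/-- `A i` acts as a full root group. -/
theorem root [Finite G] {i : ι} {v z : G} (hv : v ∈ W i) (hvZ : v ∉ Z i) (hz : z ∈ Z i) :
    ∃ a ∈ A i, a * v * a⁻¹ * v⁻¹ = z := by
  obtain ⟨R, h1, h2, -, h4⟩ := (h.blk i).toMd.relIndex_comm (h.AB i) hv hvZ
  have h5 := (h.A_full i).2.2
  rw [← h5] at h4
  have h6 : Nat.card R = q := Nat.eq_of_mul_eq_mul_right Nat.card_pos h4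
  have h7 : R = Z i := Subgroup.eq_of_le_of_card_ge h1 (by rw [h6, h.cardZ])
  rw [← h7] at hz
  obtain ⟨x, hx, e⟩ := h2 z hz
  exact ⟨x, hx, e.symm⟩

/-- `[v, A i] = Z i` if `A i` does not centralise `v ∈ V`. -/
theorem rootV [Finite G] {i : ι} {v z : G} (hv : v ∈ V) (hvA : ¬ ∀ a ∈ A i, a * v = v * a) (hz : z ∈ Z i) :
    ∃ a ∈ A i, a * v * a⁻¹ * v⁻¹ = z := by
  obtain ⟨w, hw, c, hc, rfl⟩ := h.WC i v hv
  have hwZ : w ∉ Z i := by
    intro hwZ
    apply hvA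
    intro a ha
    have c1 : Commute a w := (h.blk i).cZ a (h.AB i ha) w hwZ
    have c2 : Commute a c := h.AC i a ha c hc
    exact (c1.mul_right c2).eq
  obtain ⟨a, ha, e⟩ := root h hw hwZ hz
  refine ⟨a, ha, ?_⟩
  have h1 := h.AC i a ha c hc
  have e1 : a * c * a⁻¹ = c := by rw [h1]; group
  have e2 : a * (w * c) * a⁻¹ * (w * c)⁻¹ = a * w * a⁻¹ * (a * c * a⁻¹) * c⁻¹ * w⁻¹ := by group
  rw [e2, e1, ← e]; group

/-- one step: an `L i`-conjugate of `v` is centralised by `A i` -/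
theorem step [Finite G] (i : ι) {v : G} (hv : v ∈ V) :
    ∃ l ∈ L i, ∀ a ∈ A i, a * (l * v * l⁻¹) = l * v * l⁻¹ * a := by
  by_cases h0 : ∀ a ∈ A i, a * v = v * a
  · exact ⟨1, one_mem _, fun a ha => by simpa using h0 a ha⟩
  obtain ⟨l, hl, hne⟩ := h.exists_mv i
  -- `H' = C_V(A i ^ l)`
  obtain ⟨H, hH⟩ : ∃ H, H = V ⊓ centralizer (A i : Set G) := ⟨_, rfl⟩
  have hHc : Nat.card V = Nat.card H * q := by rw [hH]; exact h.card_CVA i
  have hmem : ∀ u, u ∈ cj l H → ∀ a ∈ A i, a * (l⁻¹ * u * l) = l⁻¹ * u * l * a := by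
    intro u hu a ha
    rw [mem_cj, hH] at hu
    exact mem_centralizer_iff.1 (mem_inf.1 hu).2 a ha
  have hHV : cj l H ≤ V := by
    rw [← h.cj_V hl]
    exact cj_mono l (by rw [hH]; exact inf_le_left)
  have hint : Z i ⊓ cj l H = ⊥ := by
    rw [eq_bot_iff]
    rintro x ⟨hx, hxH⟩
    have h5 := hmem _ hxH
    have h6 : l⁻¹ * x * l ∈ Z i := by
      rw [← (h.A_full i).2.1]
      exact mem_inf.2 ⟨(h.blk i).nV' hl ((h.blk i).ZV hx), mem_centralizer_iff.2 h5⟩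
    have h7 : x ∈ cj l (Z i) ⊓ Z i := mem_inf.2 ⟨mem_cj.2 h6, hx⟩
    rwa [h.tri' hl hne] at h7
  have hsup : V = Z i ⊔ cj l H := by
    symm
    refine Subgroup.eq_of_le_of_card_ge (sup_le (h.ZV i) hHV) ?_
    have h1 := card_sup_comm (A := Z i) (B := cj l H) fun a ha b hb => h.Vc (h.ZV i ha) (hHV hb)
    rw [hint, card_bot, mul_one, h.cardZ, card_cj] at h1
    rw [h1, hHc, mul_comm]
  have hv' := hv
  rw [hsup] at hv'
  obtain ⟨z, hz, y, hy, e⟩ := mem_sup_comm (fun a ha b hb => h.Vc (h.ZV i ha) (hHV hb)) hv'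
  obtain ⟨a, ha, e'⟩ := rootV h hv h0 (inv_mem hz)
  have h5 : a * v * a⁻¹ = y := by
    have e1 : a * v * a⁻¹ = a * v * a⁻¹ * v⁻¹ * v := by group
    rw [e1, e', e]; group
  have haL : a ∈ L i := (h.blk i).BL (h.AB i ha)
  refine ⟨l⁻¹ * a, mul_mem (inv_mem hl) haL, fun a' ha' => ?_⟩
  have h6 := hmem _ hy a' ha'
  rw [← h5] at h6
  have e : l⁻¹ * a * v * (l⁻¹ * a)⁻¹ = l⁻¹ * (a * v * a⁻¹) * l := by group
  rw [e]; exact h6

/-- `L i` is transitive on `W i`, mod `Z i`. -/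
theorem trW [Finite G] {i : ι} {x : G} (hx : x ∈ W i) : ∃ l ∈ L i, l * x * l⁻¹ ∈ Z i := by
  obtain ⟨l, hl, h1⟩ := step h i (h.WV i hx)
  refine ⟨l, hl, ?_⟩
  rw [← (h.A_full i).2.1]
  exact mem_inf.2 ⟨(h.blk i).nV l hl x hx, mem_centralizer_iff.2 fun a ha => h1 a ha⟩

/-- `A j` centralises `W i * ZJ`, so it centralises `v` iff it centralises `v ^ l`, `l ∈ L i` -/
theorem keep [Finite ι] {i j : ι} (hij : i ≠ j) {l v : G} (hl : l ∈ L i) (hv : v ∈ V)
    (hj : ∀ a ∈ A j, a * v = v * a) : ∀ a ∈ A j, a * (l * v * l⁻¹) = l * v * l⁻¹ * a := by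
  intro a ha
  obtain ⟨w, hw, z, hz, e⟩ := mem_sup_comm (fun v hv z hz => h.Vc (h.WV i hv) (h.ZJV hz)) (comm_L h hl hv)
  have e1 : l * v * l⁻¹ = w * z * v := by rw [← e]; group
  have c1 : Commute a w := h.AC j a ha w (h.WjC j i (Ne.symm hij) hw)
  have c2 : Commute a z := ((h.mem_ZJ z).1 hz).2 a (h.AB j ha)
  have c3 : Commute a v := hj a ha
  rw [e1]
  exact ((c1.mul_right c2).mul_right c3).eq

/-- a `⟨L i : i ∈ r⟩`-conjugate of `x ∈ ⟨W i : i ∈ r⟩` lies in `ZJ` -/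
theorem conj_aux [Finite G] [Finite ι] (r : Set ι) {x : G} (hx : x ∈ ⨆ i ∈ r, W i) : ∀ s : Finset ι, (∀ i ∈ s, i ∈ r) →
    ∃ g ∈ ⨆ i ∈ r, L i, g * x * g⁻¹ ∈ ⨆ i ∈ r, W i ∧ ∀ i, (i ∈ s ∨ i ∉ r) →
      ∀ a ∈ A i, a * (g * x * g⁻¹) = g * x * g⁻¹ * a := by
  classical
  have hWV : (⨆ i ∈ r, W i) ≤ V := iSup₂_le fun i _ => h.WV i
  intro s
  induction s using Finset.induction_on with
  | empty =>
    intro _
    refine ⟨1, one_mem _, by simpa using hx, fun i hi a ha => ?_⟩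
    rcases hi with hi | hi
    · exact absurd hi (Finset.notMem_empty i)
    have h1 : (⨆ j ∈ r, W j) ≤ C i := iSup₂_le fun j hj => h.WjC i j (fun e => hi (e ▸ hj))
    have := h.AC i a ha x (h1 hx)
    simpa using this
  | insert i s hi ih =>
    intro hs
    obtain ⟨g, hg, hgW, hgA⟩ := ih fun j hj => hs j (Finset.mem_insert_of_mem hj)
    have hir : i ∈ r := hs i (Finset.mem_insert_self i s)
    obtain ⟨l, hl, hlA⟩ := step h i (hWV hgW)
    have hLr : L i ≤ ⨆ i ∈ r, L i := le_iSup₂_of_le i hir le_rfl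
    have e : ∀ y, l * (g * y * g⁻¹) * l⁻¹ = (l * g) * y * (l * g)⁻¹ := fun y => by group
    refine ⟨l * g, mul_mem (hLr hl) hg, ?_, fun j hj => ?_⟩
    · rw [← e]; exact nWr h hir hl hgW
    · rw [← e]
      by_cases hij : i = j
      · subst hij; exact hlA
      · refine keep h hij hl (hWV hgW) (hgA j ?_)
        rcases hj with hj | hj
        · rcases Finset.mem_insert.1 hj with hj | hj
          · exact absurd hj.symm hij
          · exact Or.inl hj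
        · exact Or.inr hj

/-- `⟨W i : i ∈ r⟩ ∩ ZJ = ⟨Z i : i ∈ r⟩` -/
theorem W_inf_ZJ [Finite ι] : ∀ s : Finset ι, ∀ x, x ∈ (⨆ i ∈ s, W i) → x ∈ ZJ → x ∈ ⨆ i ∈ s, Z i := by
  classical
  intro s
  induction s using Finset.induction_on with
  | empty =>
    intro x hx _
    simp only [Finset.notMem_empty, iSup_false, iSup_bot] at hx ⊢
    exact hx
  | insert i s hi ih =>
    intro x hx hxJ
    have e1 : (⨆ j ∈ insert i s, W j) = W i ⊔ ⨆ j ∈ s, W j := Finset.iSup_insert _ _ _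
    have e2 : (⨆ j ∈ insert i s, Z j) = Z i ⊔ ⨆ j ∈ s, Z j := Finset.iSup_insert _ _ _
    rw [e1] at hx
    rw [e2]
    have hsC : (⨆ j ∈ s, W j) ≤ C i := iSup₂_le fun j hj => h.WjC i j (fun e => hi (e ▸ hj))
    obtain ⟨w, hw, y, hy, rfl⟩ := mem_sup_comm (fun v hv z hz => h.Vc (h.WV i hv) (h.CV i (hsC hz))) hx
    obtain ⟨z, hz, c, hc, hcJ, e⟩ := h.split_ZJ i hxJ
    obtain ⟨h1, h2⟩ := h.uniq hw ((h.blk i).ZV hz) (hsC hy) hc e
    refine mul_mem (mem_sup_left (by rw [h1]; exact hz)) (mem_sup_right (ih y hy (by rw [h2]; exact hcJ)))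

/-- **(m3)** -/
theorem conj_ZJ [Finite G] [Finite ι] (r : Set ι) {x : G} (hx : x ∈ ⨆ i ∈ r, W i) :
    ∃ g ∈ ⨆ i ∈ r, L i, g * x * g⁻¹ ∈ ⨆ i ∈ r, Z i := by
  classical
  have hfin : r.Finite := Set.toFinite r
  obtain ⟨g, hg, hgW, hgA⟩ := conj_aux h r hx hfin.toFinset fun i hi => by simpa using hi
  refine ⟨g, hg, ?_⟩
  have hWV : (⨆ i ∈ r, W i) ≤ V := iSup₂_le fun i _ => h.WV i
  have h1 : g * x * g⁻¹ ∈ ZJ := h.mem_ZJ_of (hWV hgW) fun i => hgA i (by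
    by_cases hi : i ∈ r
    · left; simpa using hi
    · right; exact hi)
  have e1 : ∀ U : ι → Subgroup G, (⨆ i ∈ r, U i) = ⨆ i ∈ hfin.toFinset, U i := by
    intro U
    simp only [Set.Finite.mem_toFinset]
  rw [e1] at hgW ⊢
  exact W_inf_ZJ h _ _ hgW h1

end fr

end Cfsg.Agent.Omega.OM.SWQ.ModQ

end

section


/-!
# THEOREM SWQ (#21705), CASE I: (H2), (H3); any `q`

* `h3` : `O` is normalised by `A j`, `o ∈ O` moves `W j` into `C j`: `Z j ≤ [W j, O]`;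
* `h2` : a best offender on `X` in `B` centralises `W i` or `Z i ≤ ⟨x x^a⟩`.
-/

set_option autoImplicit false

namespace Cfsg.Agent.Omega.OM.SWQ.HThree

open Subgroup Cfsg Cfsg.Agent.ZN Cfsg.Agent.ZN.ChoiceBase
open Cfsg.Agent.Omega.OM.Lev.Uni (FrL Best fullX)
open Cfsg.Agent.Omega.OM.SWQ.ModQ (root)
open scoped commutatorElement

universe u

variable {G : Type u} [Group G] [Finite G]

variable {ι : Type*} {B Q V X ZJ : Subgroup G} {L W Z C A : ι → Subgroup G} {q : ℕ}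
  (h : FrL B Q V X ZJ L W Z C A q)
include h

/-- **(H3)** -/
theorem h3 {O : Subgroup G} {j : ι} (hO : ∀ a ∈ A j, ∀ o ∈ O, a * o * a⁻¹ ∈ O) {o : G} (ho : o ∈ O)
    (hmv : cj o⁻¹ (W j) ≤ C j) : Z j ≤ ⁅W j, O⁆ := by
  intro z hz
  obtain ⟨b, hb, v, hv, hne⟩ := (h.blk j).ne
  have hvZ : v ∉ Z j := fun hvZ => hne ((h.blk j).cZ b hb v hvZ)
  obtain ⟨a, ha, e⟩ := root h hv hvZ (inv_mem hz)
  -- `e = [o, a⁻¹] ∈ O` acts on `W j` as `a`
  have he : o * a⁻¹ * o⁻¹ * a ∈ O := by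
    have h1 := hO a⁻¹ (inv_mem ha) o⁻¹ (inv_mem ho)
    rw [inv_inv] at h1
    have h2 := mul_mem ho h1
    have e1 : o * (a⁻¹ * o⁻¹ * a) = o * a⁻¹ * o⁻¹ * a := by group
    rwa [e1] at h2
  have hav : a * v * a⁻¹ ∈ W j := (h.blk j).BV (h.AB j ha) hv
  have h1 : a * (o⁻¹ * (a * v * a⁻¹) * o) = o⁻¹ * (a * v * a⁻¹) * o * a := by
    refine h.AC j a ha _ (hmv ?_)
    refine ⟨a * v * a⁻¹, hav, ?_⟩
    show o⁻¹ * (a * v * a⁻¹) * o⁻¹⁻¹ = o⁻¹ * (a * v * a⁻¹) * o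
    rw [inv_inv]
  have h2 : o * a⁻¹ * o⁻¹ * (a * v * a⁻¹) * (o * a⁻¹ * o⁻¹)⁻¹ = a * v * a⁻¹ := by
    have e1 : o * a⁻¹ * o⁻¹ * (a * v * a⁻¹) * (o * a⁻¹ * o⁻¹)⁻¹ =
        o * (a⁻¹ * (o⁻¹ * (a * v * a⁻¹) * o * a)) * o⁻¹ := by group
    rw [e1, ← h1]; group
  have h3 : ⁅v, o * a⁻¹ * o⁻¹ * a⁆ = z := by
    have hc : v * (a * v * a⁻¹) = a * v * a⁻¹ * v := (h.blk j).comm hv hav
    rw [commutatorElement_def]
    have e1 : v * (o * a⁻¹ * o⁻¹ * a) * v⁻¹ * (o * a⁻¹ * o⁻¹ * a)⁻¹ =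
        v * (o * a⁻¹ * o⁻¹ * (a * v * a⁻¹) * (o * a⁻¹ * o⁻¹)⁻¹)⁻¹ := by group
    rw [e1, h2]
    have e2 : z = (a * v * a⁻¹ * v⁻¹)⁻¹ := by rw [e, inv_inv]
    rw [e2]; group
  rw [← h3]
  exact commutator_mem_commutator hv he

/-- **(H2)** -/
theorem h2 {E : Subgroup G} (hE : E ≤ B) (hb : Best X E) (i : ι) :
    (∀ a ∈ E, ∀ x ∈ W i, a * x = x * a) ∨ Z i ≤ closure {y | ∃ x ∈ W i, ∃ a ∈ E, y = x * (a * x * a⁻¹)} := by
  by_cases h0 : ∀ a ∈ E, ∀ x ∈ W i, a * x = x * a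
  · exact Or.inl h0
  right
  rcases fullX (h.blk i).toMd h.Xc ((h.WV i).trans h.VX) hE hb with h1 | ⟨-, -, h5, -⟩
  · exact absurd h1 h0
  intro z hz
  push Not at h0
  obtain ⟨b, hb', v, hv, hne⟩ := h0
  have hvZ : v ∉ Z i := fun hvZ => hne ((h.blk i).cZ b (hE hb') v hvZ)
  obtain ⟨R, h1, h2, -, h4⟩ := (h.blk i).toMd.relIndex_comm hE hv hvZ
  rw [← h5] at h4
  have h6 : Nat.card R = q := Nat.eq_of_mul_eq_mul_right Nat.card_pos h4
  have h7 : R = Z i := Subgroup.eq_of_le_of_card_ge h1 (by rw [h6, h.cardZ])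
  rw [← h7] at hz
  obtain ⟨x, hx, e⟩ := h2 z hz
  refine subset_closure ⟨v, hv, x, hx, ?_⟩
  have hxv : x * v * x⁻¹ ∈ W i := (h.blk i).BV (hE hx) hv
  have hv2 : v⁻¹ = v := by
    have h8 := SQ1.Bau.elem_sq (h.blk i).el v hv
    rw [pow_two] at h8
    exact inv_eq_of_mul_eq_one_left h8
  rw [e, hv2]
  exact (h.blk i).comm hxv hv

end Cfsg.Agent.Omega.OM.SWQ.HThree

end

section


/-!
# THEOREM SWQ (#21705), CASE I: (H5)

`U = ∏ V i`, `E` permutes the `V i`, acts on `U` as an elementary abelian group, quadratically, and `[U, E]` contains no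
element `≠ 1` of a `V i`. Then the orbits of `E` on the `V i` have length at most two and the elements of `E` which fix
`V i` centralise it: `|E : C_E(U)| = 2^m`, `|U : C_U(E)| ≥ c^m` if `|V i| ≥ c` (`H5.main`); for `c = 16`:
`E` centralises `U` or `2 |E : C_E(U)|³ ≤ |U : C_U(E)|` (`H5.h5`).
-/

set_option autoImplicit false

namespace Cfsg.Agent.Omega.OM.SWQ

open Subgroup Cfsg Cfsg.Agent.ZN Cfsg.Agent.ZN.ChoiceBase
open Cfsg.Agent.Omega.FFThm (ElemM)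
open scoped Pointwise commutatorElement

universe u

variable {G : Type u} [Group G] {ι : Type*} {U E : Subgroup G} {V : ι → Subgroup G}

/-- The hypotheses of (H5) in CASE I. -/
structure H5 (U : Subgroup G) (V : ι → Subgroup G) (E : Subgroup G) : Prop where
  sup : U = ⨆ i, V i
  ab : ∀ x ∈ U, ∀ y ∈ U, x * y = y * x
  sq : ∀ x ∈ U, x * x = 1
  ind : ∀ i, ∀ x ∈ V i, x ∈ (⨆ j, ⨆ _ : j ≠ i, V j) → x = 1
  perm : ∀ e ∈ E, ∀ i, ∃ j, cj e (V i) = V j
  elem : ElemM U E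
  quad : ∀ a ∈ E, ∀ b ∈ E, ∀ x ∈ U, a * (b * x * b⁻¹ * x⁻¹) * a⁻¹ = b * x * b⁻¹ * x⁻¹
  bad : ∀ i, ∀ x ∈ V i, x ∈ ⁅U, E⁆ → x = 1

namespace H5

theorem mono {D : Subgroup G} (h : H5 U V E) (hD : D ≤ E) : H5 U V D where
  sup := h.sup
  ab := h.ab
  sq := h.sq
  ind := h.ind
  perm := fun e he => h.perm e (hD he)
  elem := ⟨fun a ha => h.elem.sq a (hD ha), fun a ha b hb => h.elem.comm a (hD ha) b (hD hb)⟩
  quad := fun a ha b hb => h.quad a (hD ha) b (hD hb)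
  bad := fun i x hx hx' => h.bad i x hx (commutator_mono le_rfl hD hx')

theorem V_le (h : H5 U V E) (i : ι) : V i ≤ U := by
  rw [h.sup]
  exact le_iSup V i

theorem comm_mem {e x : G} (he : e ∈ E) (hx : x ∈ U) : e * x * e⁻¹ * x⁻¹ ∈ ⁅U, E⁆ := by
  rw [commutator_comm]
  exact commutator_mem_commutator he hx

/-- An element of `E` which fixes `V i` centralises it. -/
theorem cent_of_fix (h : H5 U V E) {e : G} (he : e ∈ E) {i : ι} (hi : cj e (V i) = V i) {x : G} (hx : x ∈ V i) :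
    e * x = x * e := by
  have h1 : e * x * e⁻¹ ∈ V i := by
    rw [← hi]
    exact ⟨x, hx, rfl⟩
  have h2 := h.bad i (e * x * e⁻¹ * x⁻¹) (mul_mem h1 (inv_mem hx)) (comm_mem he (h.V_le i hx))
  exact mul_inv_eq_iff_eq_mul.1 (mul_inv_eq_one.1 h2)

/-- Different components meet trivially. -/
theorem disj (h : H5 U V E) {i j : ι} (hij : V i ≠ V j) {x : G} (hx : x ∈ V i) (hx' : x ∈ V j) : x = 1 := by
  refine h.ind i x hx ?_
  have hji : j ≠ i := fun e => hij (by rw [e])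
  have hle : V j ≤ ⨆ j, ⨆ _ : j ≠ i, V j := le_iSup_of_le j (le_iSup_of_le hji le_rfl)
  exact hle hx'

/-- Orbits have length at most two. -/
theorem two (h : H5 U V E) {e f : G} (he : e ∈ E) (hf : f ∈ E) {i : ι} (hne : ∃ x ∈ V i, x ≠ 1)
    (h1 : cj e (V i) ≠ V i) (h2 : cj f (V i) ≠ V i) : cj e (V i) = cj f (V i) := by
  by_contra h3
  obtain ⟨x, hx, hx1⟩ := hne
  have hxU := h.V_le i hx
  obtain ⟨je, hje⟩ := h.perm e he i
  obtain ⟨jf, hjf⟩ := h.perm f hf i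
  obtain ⟨jef, hjef⟩ := h.perm (e * f) (mul_mem he hf) i
  -- `e f` moves `V i`
  have h4 : cj (e * f) (V i) ≠ V i := by
    intro h4
    apply h3
    have h5 : cj (e * e) (V i) = V i := by
      have h6 : ∀ x ∈ V i, (e * e) * x * (e * e)⁻¹ = x := fun x hx => by
        have h7 := mem_centralizer_iff.1 (h.elem.sq e he) x (h.V_le i hx)
        rw [pow_two] at h7
        rw [← h7]
        group
      apply le_antisymm
      · rintro _ ⟨y, hy, rfl⟩
        show (e * e) * y * (e * e)⁻¹ ∈ V i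
        rw [h6 y hy]
        exact hy
      · intro y hy
        rw [mem_cj]
        have h7 := h6 y hy
        have h8 : (e * e)⁻¹ * y * (e * e) = y := by
          have := congrArg (fun t => (e * e)⁻¹ * t * (e * e)) h7
          have e1 : (e * e)⁻¹ * (e * e * y * (e * e)⁻¹) * (e * e) = y := by group
          rw [e1] at this
          exact this.symm
        rw [h8]
        exact hy
    -- `cj f (V i) = cj e⁻¹ (V i) = cj e (V i)`
    rw [← cj_cj] at h4 h5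
    have h8 : cj f (V i) = cj e (V i) := by
      have h9 := congrArg (cj e⁻¹) (h4.trans h5.symm)
      rwa [cj_inv_cj, cj_inv_cj] at h9
    exact h8.symm
  apply hx1
  refine h.ind i x hx ?_
  -- `x = (e x e⁻¹) (f x f⁻¹) (ef x (ef)⁻¹)`
  have hq := h.quad e he f hf x hxU
  have m1 : e * x * e⁻¹ ∈ V je := by rw [← hje]; exact ⟨x, hx, rfl⟩
  have m2 : f * x * f⁻¹ ∈ V jf := by rw [← hjf]; exact ⟨x, hx, rfl⟩
  have m3 : (e * f) * x * (e * f)⁻¹ ∈ V jef := by rw [← hjef]; exact ⟨x, hx, rfl⟩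
  have n1 : je ≠ i := fun e' => h1 (by rw [hje, e'])
  have n2 : jf ≠ i := fun e' => h2 (by rw [hjf, e'])
  have n3 : jef ≠ i := fun e' => h4 (by rw [hjef, e'])
  have key : x = (f * x * f⁻¹) * ((e * f) * x * (e * f)⁻¹)⁻¹ * (e * x * e⁻¹) := by
    -- `e (f x f⁻¹ x⁻¹) e⁻¹ = f x f⁻¹ x⁻¹`
    have e1 : e * (f * x * f⁻¹ * x⁻¹) * e⁻¹ = ((e * f) * x * (e * f)⁻¹) * (e * x * e⁻¹)⁻¹ := by group
    rw [e1] at hq
    have c1 := h.ab _ (h.V_le jf m2) _ (inv_mem (h.V_le jef m3))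
    have e2 : x = (((e * f) * x * (e * f)⁻¹) * (e * x * e⁻¹)⁻¹)⁻¹ * (f * x * f⁻¹) := by
      rw [hq]; group
    have c2 := h.ab _ (h.V_le je m1) _ (inv_mem (h.V_le jef m3))
    have c3 := h.ab _ (mul_mem (inv_mem (h.V_le jef m3)) (h.V_le je m1)) _ (h.V_le jf m2)
    calc x = (((e * f) * x * (e * f)⁻¹) * (e * x * e⁻¹)⁻¹)⁻¹ * (f * x * f⁻¹) := e2
      _ = ((e * x * e⁻¹) * ((e * f) * x * (e * f)⁻¹)⁻¹) * (f * x * f⁻¹) := by group
      _ = (((e * f) * x * (e * f)⁻¹)⁻¹ * (e * x * e⁻¹)) * (f * x * f⁻¹) := by rw [c2]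
      _ = (f * x * f⁻¹) * (((e * f) * x * (e * f)⁻¹)⁻¹ * (e * x * e⁻¹)) := c3
      _ = _ := by group
  rw [key]
  have le : ∀ j, j ≠ i → V j ≤ ⨆ j, ⨆ _ : j ≠ i, V j := fun j hj => le_iSup_of_le j (le_iSup_of_le hj le_rfl)
  exact mul_mem (mul_mem (le _ n2 m2) (inv_mem (le _ n3 m3))) (le _ n1 m1)

/-- The stabiliser of `V i` in `E`. -/
def st (E : Subgroup G) (X : Subgroup G) : Subgroup G := E ⊓ normalizer (X : Set G)

theorem mem_st {X : Subgroup G} {e : G} : e ∈ st E X ↔ e ∈ E ∧ cj e X = X := by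
  rw [st, mem_inf, mem_normalizer_iff_cj]

variable [Finite G]

/-- **(H5), the count.** -/
theorem main {c : ℕ} (hc1 : 1 < c) : ∀ (n : ℕ) (E : Subgroup G), H5 U V E → (∀ i, c ≤ Nat.card (V i)) →
    Nat.card E ≤ n → ∃ m, (centralizer (U : Set G)).relIndex E = 2 ^ m ∧
      c ^ m * Nat.card ↥(U ⊓ centralizer (E : Set G)) ≤ Nat.card U := by
  intro n
  induction n with
  | zero =>
    intro E _ _ h0
    exact absurd Nat.card_pos (not_lt.2 h0)
  | succ n ih =>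
    intro E h hc hn
    by_cases hfix : ∀ e ∈ E, ∀ i, cj e (V i) = V i
    · refine ⟨0, ?_, ?_⟩
      · rw [pow_zero, relIndex_eq_one]
        intro e he
        rw [h.sup]
        have : (⨆ i, V i) ≤ centralizer ({e} : Set G) := iSup_le fun i x hx =>
          mem_centralizer_singleton_iff.2 (h.cent_of_fix he (hfix e he i) hx).symm
        exact mem_centralizer_iff.2 fun x hx => mem_centralizer_singleton_iff.1 (this hx)
      · rw [pow_zero, one_mul]
        exact Subgroup.card_le_of_le inf_le_left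
    · push Not at hfix
      obtain ⟨e, he, i, hi⟩ := hfix
      have hne : ∃ x ∈ V i, x ≠ 1 := by
        have h1 : 1 < Nat.card (V i) := lt_of_lt_of_le hc1 (hc i)
        have : Nontrivial (V i) := Finite.one_lt_card_iff_nontrivial.1 h1
        obtain ⟨z, hz⟩ := exists_ne (1 : V i)
        exact ⟨z, z.2, fun h => hz (Subtype.ext h)⟩
      set D : Subgroup G := st E (V i) with hD
      have hDE : D ≤ E := inf_le_left
      have heD : e ∉ D := fun h1 => hi (mem_st.1 h1).2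
      have hlt : Nat.card D < Nat.card E := by
        rcases (Subgroup.card_le_of_le hDE).lt_or_eq with h1 | h1
        · exact h1
        · exact absurd (Subgroup.eq_of_le_of_card_ge hDE h1.ge ▸ he) heD
      obtain ⟨m, h1, h2⟩ := ih D (h.mono hDE) hc (by omega)
      have hindex : D.relIndex E = 2 := by
        rw [relIndex_eq_two_iff]
        refine ⟨e, he, fun f hf => ?_⟩
        by_cases hfD : f ∈ D
        · refine Or.inr ⟨hfD, fun h3 => heD ?_⟩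
          exact (Subgroup.mul_mem_cancel_left D hfD).1 h3
        · refine Or.inl ⟨?_, hfD⟩
          -- `f e` fixes `V i`
          have h3 : cj f (V i) ≠ V i := fun h3 => hfD (mem_st.2 ⟨hf, h3⟩)
          rw [mem_st]
          refine ⟨mul_mem hf he, ?_⟩
          by_contra h4
          -- `f⁻¹` also moves `V i`
          have h5 : cj f⁻¹ (V i) ≠ V i := fun h5 => h3 (by
            have := congrArg (cj f) h5
            rw [cj_cj_inv] at this
            exact this.symm)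
          have h6 := h.two he (inv_mem hf) hne hi h5
          apply h4
          rw [← cj_cj, h6, cj_cj_inv]
      refine ⟨m + 1, ?_, ?_⟩
      · have h3 : centralizer (U : Set G) ⊓ E ≤ D := by
          rintro f ⟨hf, hfE⟩
          rw [mem_st]
          refine ⟨hfE, ?_⟩
          have h4 : ∀ x ∈ V i, f * x * f⁻¹ = x := fun x hx => by
            rw [← mem_centralizer_iff.1 hf x (h.V_le i hx)]
            group
          apply Subgroup.eq_of_le_of_card_ge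
          · rintro _ ⟨y, hy, rfl⟩
            show f * y * f⁻¹ ∈ V i
            rw [h4 y hy]
            exact hy
          · exact (card_cj f (V i)).ge
        have h5 : (centralizer (U : Set G)).relIndex D * D.relIndex E = (centralizer (U : Set G)).relIndex E := by
          have h6 := relIndex_mul_relIndex (centralizer (U : Set G) ⊓ E) D E h3 hDE
          rw [inf_relIndex_right] at h6
          rw [← h6]
          congr 1
          rw [← inf_relIndex_right (centralizer (U : Set G)) D, ← inf_relIndex_right (centralizer (U : Set G) ⊓ E) D]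
          congr 1
          rw [inf_assoc, inf_eq_right.2 hDE]
        rw [← h5, h1, hindex, pow_succ]
      · -- `|C_U(D)| ≥ |V i| |C_U(E)|`
        have h3 : V i ⊔ (U ⊓ centralizer (E : Set G)) ≤ U ⊓ centralizer (D : Set G) := by
          refine sup_le (le_inf (h.V_le i) fun x hx => ?_) (inf_le_inf_left _ (centralizer_le hDE))
          exact mem_centralizer_iff.2 fun d hd => h.cent_of_fix (hDE hd) (mem_st.1 hd).2 hx
        have h4 : V i ⊓ (U ⊓ centralizer (E : Set G)) = ⊥ := by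
          rw [eq_bot_iff]
          rintro x ⟨hx, -, hx'⟩
          rw [mem_bot]
          obtain ⟨j, hj⟩ := h.perm e he i
          have h5 : V i ≠ V j := fun h5 => hi (hj.trans h5.symm)
          refine h.disj h5 hx ?_
          rw [← hj]
          refine ⟨x, hx, ?_⟩
          show e * x * e⁻¹ = x
          rw [mem_centralizer_iff.1 hx' e he]
          group
        have h5 : V i ≤ centralizer ((U ⊓ centralizer (E : Set G) : Subgroup G) : Set G) := fun x hx =>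
          mem_centralizer_iff.2 fun y hy => h.ab y hy.1 x (h.V_le i hx)
        have h6 := Cfsg.Agent.PLocal.ElemAbSup.card_sup_mul_card_inf (le_centralizer_iff.1 h5)
        rw [h4, Subgroup.card_bot, mul_one] at h6
        have h7 := Subgroup.card_le_of_le h3
        rw [h6] at h7
        calc c ^ (m + 1) * Nat.card ↥(U ⊓ centralizer (E : Set G))
            = c ^ m * (c * Nat.card ↥(U ⊓ centralizer (E : Set G))) := by ring
          _ ≤ c ^ m * (Nat.card (V i) * Nat.card ↥(U ⊓ centralizer (E : Set G))) :=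
              Nat.mul_le_mul_left _ (Nat.mul_le_mul_right _ (hc i))
          _ ≤ c ^ m * Nat.card ↥(U ⊓ centralizer (D : Set G)) := Nat.mul_le_mul_left _ h7
          _ ≤ Nat.card U := h2

/-- **(H5).** -/
theorem h5 (h : H5 U V E) (hc : ∀ i, 16 ≤ Nat.card (V i)) :
    E ≤ centralizer (U : Set G) ∨
      2 * (centralizer (U : Set G)).relIndex E ^ 3 ≤ (centralizer (E : Set G)).relIndex U := by
  obtain ⟨m, h1, h2⟩ := main (by norm_num) _ E h hc le_rfl
  rcases Nat.eq_zero_or_pos m with rfl | hm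
  · left
    rw [pow_zero, relIndex_eq_one] at h1
    exact h1
  · right
    have h3 : Nat.card ↥(U ⊓ centralizer (E : Set G)) * (centralizer (E : Set G)).relIndex U = Nat.card U := by
      have h4 := relIndex_mul_relIndex ⊥ (centralizer (E : Set G) ⊓ U) U bot_le inf_le_right
      rw [relIndex_bot_left, relIndex_bot_left, inf_relIndex_right] at h4
      rw [inf_comm]
      exact h4
    have h4 : 0 < Nat.card ↥(U ⊓ centralizer (E : Set G)) := Nat.card_pos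
    have h5 : 16 ^ m ≤ (centralizer (E : Set G)).relIndex U := by
      rw [← h3, mul_comm] at h2
      exact Nat.le_of_mul_le_mul_left h2 h4
    rw [h1]
    refine le_trans ?_ h5
    obtain ⟨l, rfl⟩ : ∃ l, m = l + 1 := ⟨m - 1, by omega⟩
    calc 2 * (2 ^ (l + 1)) ^ 3 = 2 * (2 ^ 3) ^ (l + 1) := by rw [← pow_mul, ← pow_mul, mul_comm (l + 1) 3]
      _ = 16 * 8 ^ l := by norm_num [pow_succ]; ring
      _ ≤ 16 * 16 ^ l := Nat.mul_le_mul_left _ (Nat.pow_le_pow_left (by norm_num) l)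
      _ = 16 ^ (l + 1) := by rw [pow_succ]; ring

end H5

end Cfsg.Agent.Omega.OM.SWQ

end

section


/-!
# `V / D` a sum of natural modules: how `T` moves the summands

`M : NatC F T H V D k`.

* `MvI M t i m` : `t` moves the `i`-th summand to the `m`-th;
* `Ons M i g A` : `g ∈ H` acts as `A ∈ SL₂(F)` on the `i`-th summand, trivially on the other ones, and on `D`;
* `Ons.conj` : `t ∈ H` conjugates such an element to one for `m`;
* `Li M i` : the preimage of the `i`-th line.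
-/

set_option autoImplicit false
set_option linter.unusedSectionVars false

namespace Cfsg.Agent.Omega.OM.Lev.Low

open Subgroup Cfsg Cfsg.Agent.ZN Cfsg.Agent.ZN.ChoiceBase Cfsg.Agent.ZN.ChoiceSit
open Cfsg.Agent.Omega.NatPair (ap ap_zero' ap_one' ap_one ap_mul ext2 ap_inv_ap ap_inj)
open Cfsg.Agent.Lib.SL2Mat
open Cfsg.Agent.Omega.SQ1.FFOne (MinH)
open Cfsg.Agent.Omega.NO3S.OneLine (NatC)
open Cfsg.Agent.Omega.NO3S.OneLine.NatC (acts_mul acts_inv acts_one acts_unique)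
open Cfsg.Agent.Omega.OM.Lev.Nat (Wn mem_Wn ap_z)
open Cfsg.Agent.Omega.FFThm (NatK ActsSL)

universe u

variable {G : Type u} [Group G] [Finite G] {F : Type} [Field F] {T H V D : Subgroup G} {k : ℕ}

/-- `t` moves the `i`-th summand to the `m`-th. -/
def MvI (M : NatC F T H V D k) (t : G) (i m : Fin k) : Prop := ∀ v ∈ V, M.nat.e (t * v * t⁻¹) m = 0 ↔ M.nat.e v i = 0

/-- `g` acts as `A` on the `i`-th summand, trivially on the others and on `D`. -/
def Ons (M : NatC F T H V D k) (i : Fin k) (g : G) (A : Matrix.SpecialLinearGroup (Fin 2) F) : Prop :=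
  g ∈ H ∧ ActsSL M.nat.e V D g (Pi.mulSingle i A)

/-- the preimage of the `i`-th line -/
def Li (M : NatC F T H V D k) (i : Fin k) : Subgroup G where
  carrier := {v | v ∈ V ∧ (∀ j, j ≠ i → M.nat.e v j = 0) ∧ M.nat.e v i 1 = 0}
  mul_mem' := by
    rintro a b ⟨ha, ha', ha1⟩ ⟨hb, hb', hb1⟩
    refine ⟨mul_mem ha hb, fun j hj => by rw [M.nat.mul a ha b hb, Pi.add_apply, ha' j hj, hb' j hj, add_zero], ?_⟩
    rw [M.nat.mul a ha b hb, Pi.add_apply, Pi.add_apply, ha1, hb1, add_zero]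
  one_mem' := ⟨one_mem _, fun j _ => by rw [M.map_one]; rfl, by rw [M.map_one]; rfl⟩
  inv_mem' := by
    rintro a ⟨ha, ha', ha1⟩
    refine ⟨inv_mem ha, fun j hj => by rw [M.map_inv ha, Pi.neg_apply, ha' j hj, neg_zero], ?_⟩
    rw [M.map_inv ha, Pi.neg_apply, Pi.neg_apply, ha1, neg_zero]

variable {M : NatC F T H V D k}

theorem mem_Li {i : Fin k} {v : G} : v ∈ Li M i ↔ v ∈ V ∧ (∀ j, j ≠ i → M.nat.e v j = 0) ∧ M.nat.e v i 1 = 0 := Iff.rfl

theorem Li_le_Wn (i : Fin k) : Li M i ≤ Wn M i := fun _ hv => ⟨hv.1, hv.2.1⟩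

theorem D_le_Li (i : Fin k) : D ≤ Li M i := fun d hd => by
  have h1 : M.nat.e d = 0 := (M.nat.ker d (M.DV hd)).2 hd
  exact ⟨M.DV hd, fun j _ => by rw [h1]; rfl, by rw [h1]; rfl⟩

/-- an element of the line with vanishing coordinate lies in `D` -/
theorem Li_D {i : Fin k} {v : G} (hv : v ∈ Li M i) (h0 : M.nat.e v i 0 = 0) : v ∈ D := by
  refine (M.nat.ker v hv.1).1 (funext fun j => ?_)
  by_cases hj : j = i
  · subst hj; exact ext2 h0 hv.2.2
  · exact hv.2.1 j hj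

theorem D_e {d : G} (hd : d ∈ D) : M.nat.e d = 0 := (M.nat.ker d (M.DV hd)).2 hd

/-- an element supported on `i` with given coordinates -/
theorem exists_vec (M : NatC F T H V D k) (i : Fin k) (x : Fin 2 → F) : ∃ v ∈ Wn M i, M.nat.e v i = x := by
  classical
  obtain ⟨v, hv, e⟩ := M.nat.surj (Function.update 0 i x)
  refine ⟨v, ⟨hv, fun j hj => ?_⟩, by rw [e, Function.update_self]⟩
  rw [e, Function.update_of_ne hj]; rfl

theorem exists_line (M : NatC F T H V D k) (i : Fin k) (a : F) : ∃ v ∈ Li M i, M.nat.e v i 0 = a := by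
  obtain ⟨v, hv, e⟩ := exists_vec M i ![a, 0]
  exact ⟨v, ⟨hv.1, hv.2, by rw [e]; rfl⟩, by rw [e]; rfl⟩

namespace MvI

theorem ex (M : NatC F T H V D k) {t : G} (ht : t ∈ H) (i : Fin k) : ∃ m, MvI M t i m := by
  obtain ⟨σ, hσ⟩ := M.nat.perm t ht
  exact ⟨σ i, fun v hv => hσ v hv i⟩

theorem one (i : Fin k) : MvI M 1 i i := fun v _ => by rw [one_mul, inv_one, mul_one]

theorem mul {s t : G} (ht : t ∈ H) {i m n : Fin k} (h1 : MvI M s m n) (h2 : MvI M t i m) : MvI M (s * t) i n := by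
  intro v hv
  have e : s * t * v * (s * t)⁻¹ = s * (t * v * t⁻¹) * s⁻¹ := by group
  rw [e, h1 _ (M.Vn t ht v hv), h2 v hv]

theorem inv {t : G} (ht : t ∈ H) {i m : Fin k} (h : MvI M t i m) : MvI M t⁻¹ m i := by
  intro v hv
  have h1 := h _ (M.Vn t⁻¹ (inv_mem ht) v hv)
  have e : t * (t⁻¹ * v * t⁻¹⁻¹) * t⁻¹ = v := by group
  rw [e] at h1
  exact h1.symm

theorem pow {t : G} (ht : t ∈ H) {i : Fin k} (h : MvI M t i i) (n : ℕ) : MvI M (t ^ n) i i := by
  induction n with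
  | zero => rw [pow_zero]; exact one i
  | succ n ih => rw [pow_succ]; exact ih.mul ht h

theorem uniq {t : G} {i m m' : Fin k} (h1 : MvI M t i m) (h2 : MvI M t i m') (ht : t ∈ H) : m = m' := by
  by_contra hne
  obtain ⟨v, hv, e⟩ := exists_vec M m ![1, 0]
  have e1 : t * (t⁻¹ * v * t⁻¹⁻¹) * t⁻¹ = v := by group
  have h3 := h1 _ (M.Vn t⁻¹ (inv_mem ht) v hv.1)
  have h4 := h2 _ (M.Vn t⁻¹ (inv_mem ht) v hv.1)
  rw [e1] at h3 h4
  have h5 := h3.2 (h4.1 (hv.2 m' (Ne.symm hne)))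
  rw [e] at h5
  have := congrFun h5 0
  simp at this

theorem uniq' {t : G} {i i' m : Fin k} (h1 : MvI M t i m) (h2 : MvI M t i' m) (ht : t ∈ H) : i = i' :=
  uniq (h1.inv ht) (h2.inv ht) (inv_mem ht)

theorem Wn {t : G} {i m : Fin k} (h : MvI M t i m) (ht : t ∈ H) {v : G} (hv : v ∈ Wn M i) :
    t * v * t⁻¹ ∈ Nat.Wn M m := by
  refine ⟨M.Vn t ht v hv.1, fun j hj => ?_⟩
  obtain ⟨i', hi'⟩ := ex M (inv_mem ht) j
  have h1 := hi'.inv (inv_mem ht)
  rw [inv_inv] at h1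
  refine (h1 v hv.1).2 (hv.2 i' fun e => hj ?_)
  subst e
  exact uniq h1 h ht

theorem line {t : G} {i m : Fin k} (h : MvI M t i m) (hT : T ≤ H) (ht : t ∈ T) {v : G} (hv : v ∈ V) :
    M.nat.e (t * v * t⁻¹) m 1 = 0 ↔ M.nat.e v i 1 = 0 := by
  obtain ⟨τ, hτ⟩ := M.nat.line t ht
  have h1 : τ i = m := by
    by_contra hne
    obtain ⟨w, hw, e⟩ := exists_vec M i ![0, 1]
    have h2 := ((h.Wn (hT ht) hw).2 (τ i) hne)
    have h3 := (hτ w hw.1 i).1 (by rw [h2]; rfl)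
    rw [e] at h3
    simp at h3
  rw [← h1]
  exact hτ v hv i

theorem Li {t : G} {i m : Fin k} (h : MvI M t i m) (hT : T ≤ H) (ht : t ∈ T) {v : G} (hv : v ∈ Li M i) :
    t * v * t⁻¹ ∈ Low.Li M m := by
  have h1 := h.Wn (hT ht) (Li_le_Wn i hv)
  exact ⟨h1.1, h1.2, (h.line hT ht hv.1).2 hv.2.2⟩

theorem Li_iff {t : G} {i m : Fin k} (h : MvI M t i m) (hT : T ≤ H) (ht : t ∈ T) {v : G} :
    t * v * t⁻¹ ∈ Low.Li M m ↔ v ∈ Low.Li M i := by
  refine ⟨fun h1 => ?_, h.Li hT ht⟩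
  have h2 := (h.inv (hT ht)).Li hT (inv_mem ht) h1
  have e : t⁻¹ * (t * v * t⁻¹) * t⁻¹⁻¹ = v := by group
  rwa [e] at h2

end MvI

namespace Ons

variable {i : Fin k} {g g' : G} {A A' : Matrix.SpecialLinearGroup (Fin 2) F}

theorem e_i (h : Ons M i g A) {v : G} (hv : v ∈ V) : M.nat.e (g * v * g⁻¹) i = ap A (M.nat.e v i) := by
  rw [h.2.1 v hv i, Pi.mulSingle_eq_same]

theorem e_m (h : Ons M i g A) {v : G} (hv : v ∈ V) {m : Fin k} (hm : m ≠ i) :
    M.nat.e (g * v * g⁻¹) m = M.nat.e v m := by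
  rw [h.2.1 v hv m, Pi.mulSingle_eq_of_ne hm, ap_one]

theorem of (hg : g ∈ H) (h1 : ∀ v ∈ V, M.nat.e (g * v * g⁻¹) i = ap A (M.nat.e v i))
    (h2 : ∀ v ∈ V, ∀ m, m ≠ i → M.nat.e (g * v * g⁻¹) m = M.nat.e v m) (h3 : ∀ d ∈ D, g * d = d * g) :
    Ons M i g A := by
  refine ⟨hg, fun v hv m => ?_, h3⟩
  by_cases hm : m = i
  · subst hm; rw [Pi.mulSingle_eq_same, h1 v hv]
  · rw [Pi.mulSingle_eq_of_ne hm, ap_one, h2 v hv m hm]

theorem mul (h : Ons M i g A) (h' : Ons M i g' A') : Ons M i (g * g') (A * A') := by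
  refine of (mul_mem h.1 h'.1) (fun v hv => ?_) (fun v hv m hm => ?_) fun d hd => ?_
  · have e : g * g' * v * (g * g')⁻¹ = g * (g' * v * g'⁻¹) * g⁻¹ := by group
    rw [e, h.e_i (M.Vn g' h'.1 v hv), h'.e_i hv, ap_mul]
  · have e : g * g' * v * (g * g')⁻¹ = g * (g' * v * g'⁻¹) * g⁻¹ := by group
    rw [e, h.e_m (M.Vn g' h'.1 v hv) hm, h'.e_m hv hm]
  · have c1 : Commute g d := h.2.2 d hd
    have c2 : Commute g' d := h'.2.2 d hd
    exact (c1.mul_left c2).eq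

theorem inv (h : Ons M i g A) : Ons M i g⁻¹ A⁻¹ := by
  refine of (inv_mem h.1) (fun v hv => ?_) (fun v hv m hm => ?_) fun d hd => ?_
  · have h1 := h.e_i (M.Vn g⁻¹ (inv_mem h.1) v hv)
    have e : g * (g⁻¹ * v * g⁻¹⁻¹) * g⁻¹ = v := by group
    rw [e] at h1
    rw [h1, ap_inv_ap]
  · have h1 := h.e_m (M.Vn g⁻¹ (inv_mem h.1) v hv) hm
    have e : g * (g⁻¹ * v * g⁻¹⁻¹) * g⁻¹ = v := by group
    rw [e] at h1
    exact h1.symm
  · have c1 : Commute g d := h.2.2 d hd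
    exact c1.inv_left.eq

/-- elements acting in the same way on one summand, trivially on the others and on `D`, act in the same way on `V` -/
theorem same [CharP F 2] (hm : MinH H T) (h : Ons M i g A) (h' : Ons M i g' A) {v : G} (hv : v ∈ V) :
    g * v * g⁻¹ = g' * v * g'⁻¹ := by
  have h1 := h'.inv.mul h
  rw [inv_mul_cancel] at h1
  have h2 : g'⁻¹ * g ∈ M.stab := by
    refine ⟨h1.1, fun v hv j => ?_, h1.2.2⟩
    rw [h1.2.1 v hv j, Pi.mulSingle_one]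
  have h3 := M.cent_of_stab hm h2 hv
  calc g * v * g⁻¹ = g' * ((g'⁻¹ * g) * v) * g⁻¹ := by group
    _ = g' * (v * (g'⁻¹ * g)) * g⁻¹ := by rw [h3]
    _ = _ := by group

/-- **the conjugate of an element acting on one summand** -/
theorem conj (h : Ons M i g A) {t : G} (ht : t ∈ H) {m : Fin k} (hm : MvI M t i m) :
    ∃ A', Ons M m (t * g * t⁻¹) A' := by
  obtain ⟨B, hB⟩ := M.nat.norm t ht g h.1 _ h.2.1
  have hgH := mul_mem (mul_mem ht h.1) (inv_mem ht)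
  refine ⟨B m, of hgH (fun v hv => hB v hv m) (fun v hv j hj => ?_) fun d hd => ?_⟩
  · have hw := M.Vn t⁻¹ (inv_mem ht) v hv
    have hgw := M.Vn g h.1 _ hw
    obtain ⟨i', hi'⟩ := MvI.ex M (inv_mem ht) j
    have h1 := hi'.inv (inv_mem ht)
    rw [inv_inv] at h1
    have hii : i' ≠ i := fun e => hj (by subst e; exact MvI.uniq h1 hm ht)
    have h2 : M.nat.e (g * (t⁻¹ * v * t⁻¹⁻¹) * g⁻¹ * (t⁻¹ * v * t⁻¹⁻¹)⁻¹) i' = 0 := by
      rw [M.map_div hgw hw, Pi.sub_apply, h.e_m hw hii, sub_self]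
    have h3 := (h1 _ (mul_mem hgw (inv_mem hw))).2 h2
    have e : t * (g * (t⁻¹ * v * t⁻¹⁻¹) * g⁻¹ * (t⁻¹ * v * t⁻¹⁻¹)⁻¹) * t⁻¹ =
        (t * g * t⁻¹ * v * (t * g * t⁻¹)⁻¹) * v⁻¹ := by group
    rw [e, M.map_div (M.Vn _ hgH v hv) hv, Pi.sub_apply, sub_eq_zero] at h3
    exact h3
  · have h1 := M.Dn t⁻¹ (inv_mem ht) d hd
    rw [inv_inv] at h1
    have h2 := h.2.2 _ h1
    have h3 := congrArg (fun x => t * x * t⁻¹) h2
    simpa [mul_assoc] using h3

/-- if the conjugate acts trivially modulo `D` on the line, so does the element -/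
theorem line_triv (h : Ons M i g A) (hT : T ≤ H) {t : G} (ht : t ∈ T) {m : Fin k} (hm : MvI M t i m)
    {A' : Matrix.SpecialLinearGroup (Fin 2) F} (h' : Ons M m (t * g * t⁻¹) A') :
    (ent A 1 0 = 0 ↔ ent A' 1 0 = 0) ∧ (ent A 1 0 = 0 → (ent A 0 0 = 1 ↔ ent A' 0 0 = 1)) := by
  have key : ∀ {i m : Fin k} {g t : G} {A A' : Matrix.SpecialLinearGroup (Fin 2) F}, Ons M i g A → t ∈ T →
      MvI M t i m → Ons M m (t * g * t⁻¹) A' → ent A 1 0 = 0 →
        ent A' 1 0 = 0 ∧ (ent A 0 0 = 1 → ent A' 0 0 = 1) := by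
    intro i m g t A A' h ht hm h' h0
    obtain ⟨w, hw, e⟩ := exists_line M m 1
    have hv := (hm.inv (hT ht)).Li hT (inv_mem ht) hw
    set v := t⁻¹ * w * t⁻¹⁻¹ with hv0
    have e1 : t * g * t⁻¹ * w * (t * g * t⁻¹)⁻¹ = t * (g * v * g⁻¹) * t⁻¹ := by rw [hv0]; group
    have hgv : g * v * g⁻¹ ∈ Li M i := by
      refine ⟨M.Vn g h.1 v hv.1, fun j hj => by rw [h.e_m hv.1 hj, hv.2.1 j hj], ?_⟩
      rw [h.e_i hv.1, ap_one', h0, hv.2.2]; simp
    have h3 := hm.Li hT ht hgv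
    rw [← e1] at h3
    have ew : M.nat.e w m = ![1, 0] := ext2 e hw.2.2
    have h4 := h3.2.2
    rw [h'.e_i hw.1, ap_one', ew] at h4
    have h5 : ent A' 1 0 = 0 := by simpa using h4
    refine ⟨h5, fun h00 => ?_⟩
    -- `[v, g] ∈ D`
    have h6 : g * v * g⁻¹ * v⁻¹ ∈ D := by
      refine Li_D (mul_mem hgv (inv_mem hv)) ?_
      rw [M.map_div hgv.1 hv.1, Pi.sub_apply, Pi.sub_apply, h.e_i hv.1, ap_zero', h00, hv.2.2]
      simp
    have h7 := D_e (M := M) (M.Dn t (hT ht) _ h6)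
    have e2 : t * (g * v * g⁻¹ * v⁻¹) * t⁻¹ = (t * g * t⁻¹ * w * (t * g * t⁻¹)⁻¹) * w⁻¹ := by rw [hv0]; group
    rw [e2, M.map_div (M.Vn _ h'.1 w hw.1) hw.1, sub_eq_zero] at h7
    have h8 := congrFun (congrFun h7 m) 0
    rw [h'.e_i hw.1, ap_zero', ew] at h8
    simpa using h8
  have e : t⁻¹ * (t * g * t⁻¹) * t⁻¹⁻¹ = g := by group
  have h1 := fun h0 => key h ht hm h' h0
  have h2 := fun h0 => key (g := t * g * t⁻¹) (t := t⁻¹) (A' := A) h' (inv_mem ht) (hm.inv (hT ht)) (by rw [e]; exact h) h0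
  exact ⟨⟨fun h0 => (h1 h0).1, fun h0 => (h2 h0).1⟩, fun h0 => ⟨(h1 h0).2, (h2 (h1 h0).1).2⟩⟩

end Ons

end Cfsg.Agent.Omega.OM.Lev.Low

end
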